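import Groth.Agent.DerSchH7.Amp
import Groth.Agent.DCohLib.ClosedPush
import Mathlib.AlgebraicGeometry.Morphisms.Smooth
import Mathlib.AlgebraicGeometry.Morphisms.Flat

/-! Tor amplitude after a closed immersion. -/

set_option autoImplicit false
set_option backward.isDefEq.respectTransparency false

universe u

open CategoryTheory Limits AlgebraicGeometry
attribute [local instance] HasDerivedCategory.standard

noncomputable section

namespace Groth.Agent.DerSchH7

open Groth.Agent.DRingLib Groth.Agent.DCohLib

variable {X Y : Scheme.{u}}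

/-- The stalk of a direct image along a closed immersion. -/
def pushStalkLinEquiv (i : X ⟶ Y) [IsClosedImmersion i] (x : X) (M : X.Modules) :
    (stkF (i.base x)).obj ((Scheme.Modules.pushforward i).obj M) ≅ (DerSch.stalkOver i x).obj M :=
  LinearEquiv.toModuleIso (LinearEquiv.ofBijective
    ({ toFun := pushStalk i M x
       map_add' := map_add _
       map_smul' := fun a z => pushStalk_smul i M x a z } :
      ((stkF (i.base x)).obj ((Scheme.Modules.pushforward i).obj M)) →ₗ[Y.presheaf.stalk (i.base x)]
        (DerSch.stalkOver i x).obj M)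
    (bijective_pushStalk i M x))

/-- The stalk functor after a direct image along a closed immersion. -/
def pushStalkNatIso (i : X ⟶ Y) [IsClosedImmersion i] (x : X) :
    Scheme.Modules.pushforward i ⋙ stkF (i.base x) ≅ DerSch.stalkOver i x :=
  NatIso.ofComponents (pushStalkLinEquiv i x) fun {M N} φ => by
    ext z
    obtain ⟨U, hU, s, rfl⟩ := TopCat.Presheaf.exists_germ_eq ((Scheme.Modules.pushforward i).obj M).presheaf z
    show pushStalk i N x ((stkF (i.base x)).map ((Scheme.Modules.pushforward i).map φ)
        (((Scheme.Modules.pushforward i).obj M).presheaf.germ U (i.base x) hU s)) =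
      (stkF x).map φ (pushStalk i M x (((Scheme.Modules.pushforward i).obj M).presheaf.germ U (i.base x) hU s))
    rw [pushStalk_germ, DerSch.stalkFunctor_map_germ, DerSch.stalkFunctor_map_germ]
    exact pushStalk_germ i N x hU _

/-- The stalk complex of a direct image along a closed immersion. -/
def pushStalkCxIso (i : X ⟶ Y) [IsClosedImmersion i] (x : X) (F : CochainComplex X.Modules ℤ) :
    ((stkF (i.base x)).mapHomologicalComplex (ComplexShape.up ℤ)).obj
        (((Scheme.Modules.pushforward i).mapHomologicalComplex (ComplexShape.up ℤ)).obj F) ≅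
      (DerSch.stalkCxOver i x).obj F :=
  HomologicalComplex.Hom.isoOfComponents (fun n => (pushStalkNatIso i x).app (F.X n))
    (fun n m _ => ((pushStalkNatIso i x).hom.naturality (F.d n m)).symm)

theorem hasTorAmplitude_of_pushforward (i : X ⟶ Y) [IsClosedImmersion i] (F : CochainComplex X.Modules ℤ)
    {a b : ℤ} (h : DerSch.HasTorAmplitude (𝟙 Y) a b
      (((Scheme.Modules.pushforward i).mapHomologicalComplex (ComplexShape.up ℤ)).obj F)) :
    DerSch.HasTorAmplitude i a b F := fun x =>
  amp_of_iso (DerivedCategory.Q.mapIso (pushStalkCxIso i x F))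
    ((hasTorAmplitudeAt_id_iff _ a b (i.base x)).1 (h (i.base x)))

theorem hasTorDimLE_zero_of_flat (f : X ⟶ Y) [Flat f] : DerSch.HasTorAmplitude f 0 0 (DerSch.unitCx X) := fun x => by
  refine amp_of_iso (DerivedCategory.Q.mapIso (stalkUnitCxIso f x)).symm ?_
  refine ⟨(DTen.resCx (f.stalkMap x).hom).obj (single₀ (ModuleCat.of (X.presheaf.stalk x) (X.presheaf.stalk x))),
    fun i hi => (ModuleCat.restrictScalars (f.stalkMap x).hom).map_isZero
      (HomologicalComplex.isZero_single_obj_X (ComplexShape.up ℤ) 0 _ i (by omega)), fun i => ?_,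
    ⟨Iso.refl _⟩⟩
  by_cases hi : i = 0
  · subst hi
    haveI : Module.Flat (Y.presheaf.stalk (f.base x))
        ((ModuleCat.restrictScalars (f.stalkMap x).hom).obj (ModuleCat.of (X.presheaf.stalk x) (X.presheaf.stalk x))) := by
      have h := Flat.stalkMap f x
      exact h
    exact Module.Flat.of_linearEquiv ((ModuleCat.restrictScalars (f.stalkMap x).hom).mapIso
      (HomologicalComplex.singleObjXSelf (ComplexShape.up ℤ) 0 (ModuleCat.of (X.presheaf.stalk x) (X.presheaf.stalk x)))).toLinearEquiv
  · have hz : IsZero (((DTen.resCx (f.stalkMap x).hom).obj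
        (single₀ (ModuleCat.of (X.presheaf.stalk x) (X.presheaf.stalk x)))).X i) :=
      (ModuleCat.restrictScalars (f.stalkMap x).hom).map_isZero (HomologicalComplex.isZero_single_obj_X (ComplexShape.up ℤ) 0 _ i hi)
    haveI := ModuleCat.subsingleton_of_isZero hz
    infer_instance

end Groth.Agent.DerSchH7
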