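import Groth.Agent.DerSchH7.Stalk
import Groth.Agent.DCohLib.FlatAmp
import Groth.Agent.DCohLib.StalkKFlat
import Groth.Agent.DCohLib.SuppOpen
import Groth.Agent.DRingLib.FlatCoker
import Groth.Prelude.Def_DTor2

/-! Flat amplitude is tested on stalks. -/

set_option autoImplicit false
set_option backward.isDefEq.respectTransparency false

universe u

open CategoryTheory Limits AlgebraicGeometry
attribute [local instance] HasDerivedCategory.standard

noncomputable section

namespace Groth.Agent.DerSchH7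

open Groth.Agent.DRingLib Groth.Agent.DCohLib

variable {X Y : Scheme.{u}}

instance (f : X ⟶ Y) (x : X) : PreservesFiniteLimits (DerSch.stalkOver f x) :=
  comp_preservesFiniteLimits (stkF x) _

instance (f : X ⟶ Y) (x : X) : PreservesFiniteColimits (DerSch.stalkOver f x) :=
  comp_preservesFiniteColimits (stkF x) _

/-- Stalk complexes of isomorphic objects are isomorphic. -/
theorem nonempty_stalkCxOver_iso (f : X ⟶ Y) (x : X) {F G : CochainComplex X.Modules ℤ}
    (e : DCoh.toD X F ≅ DCoh.toD X G) :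
    Nonempty (DRing.toD ((DerSch.stalkCxOver f x).obj F) ≅ DRing.toD ((DerSch.stalkCxOver f x).obj G)) :=
  ⟨((DerSch.stalkOver f x).mapDerivedCategoryFactors.app F).symm ≪≫
    (DerSch.stalkOver f x).mapDerivedCategory.mapIso e ≪≫
    (DerSch.stalkOver f x).mapDerivedCategoryFactors.app G⟩

theorem hasTorAmplitudeAt_congr (f : X ⟶ Y) {x : X} {F G : CochainComplex X.Modules ℤ}
    (e : DCoh.toD X F ≅ DCoh.toD X G) {a b : ℤ} (h : DerSch.HasTorAmplitudeAt f a b F x) :
    DerSch.HasTorAmplitudeAt f a b G x := by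
  obtain ⟨e'⟩ := nonempty_stalkCxOver_iso f x e
  exact amp_of_iso e' h

/-- Over the identity, stalks over the base are stalks. -/
def stalkOverIdIso (x : X) : DerSch.stalkOver (𝟙 X) x ≅ stkF x :=
  Functor.isoWhiskerLeft (stkF x)
    (ModuleCat.restrictScalarsId' _ (by rw [Scheme.Hom.stalkMap_id]; rfl)) ≪≫ Functor.rightUnitor _

theorem hasTorAmplitudeAt_id_iff (F : CochainComplex X.Modules ℤ) (a b : ℤ) (x : X) :
    DerSch.HasTorAmplitudeAt (𝟙 X) a b F x ↔
      DRing.HasTorAmplitudeIn (X.presheaf.stalk x) a b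
        (DRing.toD (((stkF x).mapHomologicalComplex (ComplexShape.up ℤ)).obj F)) :=
  ⟨amp_of_iso (DerivedCategory.Q.mapIso ((NatIso.mapHomologicalComplex (stalkOverIdIso x) _).app F)),
    amp_of_iso (DerivedCategory.Q.mapIso ((NatIso.mapHomologicalComplex (stalkOverIdIso x) _).app F)).symm⟩

theorem hasTorAmplitude_id_of_flatAmplitude {F : CochainComplex X.Modules ℤ} {a b : ℤ}
    (h : DCoh.HasFlatAmplitudeIn a b (DCoh.toD X F)) : DerSch.HasTorAmplitude (𝟙 X) a b F := fun x => by
  obtain ⟨E, hE, hfl, ⟨e⟩⟩ := h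
  refine hasTorAmplitudeAt_congr _ e ((hasTorAmplitudeAt_id_iff E a b x).2 ?_)
  exact ⟨((stkF x).mapHomologicalComplex (ComplexShape.up ℤ)).obj E, fun i hi => (stkF x).map_isZero (hE i hi),
    fun i => hfl i x, ⟨Iso.refl _⟩⟩

theorem exactAt_of_hasTorAmplitude_id {F : CochainComplex X.Modules ℤ} {a b : ℤ}
    (h : DerSch.HasTorAmplitude (𝟙 X) a b F) (i : ℤ) (hi : i < a ∨ b < i) : F.ExactAt i := by
  rw [HomologicalComplex.exactAt_iff_isZero_homology]
  refine isZero_of_stalks fun x => ?_
  obtain ⟨E, hE, -, ⟨e⟩⟩ := (hasTorAmplitudeAt_id_iff F a b x).1 (h x)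
  let G := ((stkF x).mapHomologicalComplex (ComplexShape.up ℤ)).obj F
  have h1 : IsZero (G.homology i) :=
    ((HomologicalComplex.exactAt_iff_isZero_homology _ _).1
      (ShortComplex.exact_of_isZero_X₂ _ (hE i hi))).of_iso
        (((DerivedCategory.homologyFunctorFactors _ i).app _).symm ≪≫
          (DerivedCategory.homologyFunctor _ i).mapIso e.symm ≪≫
          (DerivedCategory.homologyFunctorFactors _ i).app _)
  have h2 : IsZero ((stkF x).obj (F.homology i)) := h1.of_iso ((F.sc i).mapHomologyIso (stkF x)).symm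
  exact ModuleCat.subsingleton_of_isZero h2

theorem isFlat_opcycles_of_hasTorAmplitude_id {N : CochainComplex X.Modules ℤ} {c : ℤ}
    (hNb : ∀ i, c < i → IsZero (N.X i)) (hfl : ∀ i, FlatMod.IsFlat (N.X i)) {a b : ℤ}
    (h : DerSch.HasTorAmplitude (𝟙 X) a b N) : FlatMod.IsFlat (N.opcycles a) := fun x => by
  let G : DRing.Cx (X.presheaf.stalk x) := ((stkF x).mapHomologicalComplex (ComplexShape.up ℤ)).obj N
  haveI := flat_cokernel (K := G) (b := c) (fun i hi => (stkF x).map_isZero (hNb i hi))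
    (fun i => hfl i x) ((hasTorAmplitudeAt_id_iff N a b x).1 (h x))
  obtain ⟨q⟩ := opcycles_equiv G a
  have e : G.opcycles a ≅ (stkF x).obj (N.opcycles a) := (N.sc a).mapOpcyclesIso (stkF x)
  haveI : Module.Flat (X.presheaf.stalk x) (G.opcycles a) := Module.Flat.of_linearEquiv q.symm
  exact Module.Flat.of_linearEquiv e.toLinearEquiv.symm

theorem flatAmplitude_of_hasTorAmplitude_id {F : CochainComplex X.Modules ℤ} {a b : ℤ}
    (h : DerSch.HasTorAmplitude (𝟙 X) a b F) : DCoh.HasFlatAmplitudeIn a b (DCoh.toD X F) := by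
  haveI : F.IsLE b := (CochainComplex.isLE_iff _ _).2 fun i hi =>
    exactAt_of_hasTorAmplitude_id h i (Or.inr hi)
  obtain ⟨N, c, hc, hN, hNb⟩ : ∃ (N : CochainComplex X.Modules ℤ) (c : N ⟶ F.truncLE b), QuasiIso c ∧
      (∀ n, ModSite.IsFlat (O := X.sheaf) (N.X n)) ∧ ∀ n, b < n → IsZero (N.X n) :=
    exists_bdd_flat_resolution X.sheaf (F.truncLE b) b
      (fun n hn => CochainComplex.isZero_of_isStrictlyLE (F.truncLE b) b n hn)
  haveI := hc
  haveI : IsIso (DerivedCategory.Q.map (c ≫ F.ιTruncLE b)) :=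
    Localization.inverts DerivedCategory.Q (HomologicalComplex.quasiIso X.Modules (ComplexShape.up ℤ)) _
      ((HomologicalComplex.mem_quasiIso_iff _).2 inferInstance)
  let e : DCoh.toD X N ≅ DCoh.toD X F := asIso (DerivedCategory.Q.map (c ≫ F.ιTruncLE b))
  have hN' : ∀ n, FlatMod.IsFlat (N.X n) := fun n => (isFlat_iff _).2 (hN n)
  have hT : DerSch.HasTorAmplitude (𝟙 X) a b N := fun x => hasTorAmplitudeAt_congr _ e.symm (h x)
  haveI : CochainComplex.IsGE N a := (CochainComplex.isGE_iff _ _).2 fun i hi =>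
    exactAt_of_hasTorAmplitude_id hT i (Or.inl hi)
  haveI : IsIso (DerivedCategory.Q.map (CochainComplex.πTruncGE N a)) :=
    Localization.inverts DerivedCategory.Q (HomologicalComplex.quasiIso X.Modules (ComplexShape.up ℤ)) _
      ((HomologicalComplex.mem_quasiIso_iff _).2 inferInstance)
  have hz : ∀ i, IsZero ((CochainComplex.truncGE N a).X i) → FlatMod.IsFlat ((CochainComplex.truncGE N a).X i) :=
    fun i hi => (isFlat_iff _).2 ((Groth.Agent.KFlat.flatClassMod X.sheaf).zero hi)
  refine ⟨CochainComplex.truncGE N a, fun i hi => ?_, fun i => ?_,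
    ⟨(asIso (DerivedCategory.Q.map (CochainComplex.πTruncGE N a))).symm ≪≫ e⟩⟩
  · rcases hi with hi | hi
    · exact CochainComplex.isZero_of_isStrictlyGE _ a i hi
    · rcases lt_trichotomy i a with hia | rfl | hia
      · exact CochainComplex.isZero_of_isStrictlyGE _ a i hia
      · exact (IsZero.of_epi (N.pOpcycles i) (hNb i hi)).of_iso (CochainComplex.truncGEXIsoOpcycles N i)
      · exact (hNb i hi).of_iso (CochainComplex.truncGEXIso N a i hia)
  · rcases lt_trichotomy i a with hi | rfl | hi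
    · exact hz i (CochainComplex.isZero_of_isStrictlyGE _ a i hi)
    · exact isFlat_congr (CochainComplex.truncGEXIsoOpcycles N i).symm
        (isFlat_opcycles_of_hasTorAmplitude_id hNb hN' hT)
    · exact isFlat_congr (CochainComplex.truncGEXIso N a i hi).symm (hN' i)

end Groth.Agent.DerSchH7
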