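import Groth.Agent.DerSchH7.TensorTrans
import Groth.Agent.DerSchH7.Amp
import Groth.Agent.DCohLib.PullPerf
import Groth.Agent.DCohLib.TensorDer

/-! Tor amplitude of derived tensor products with inverse images. -/

set_option autoImplicit false
set_option backward.isDefEq.respectTransparency false

universe u

open CategoryTheory Limits AlgebraicGeometry MonoidalCategory
attribute [local instance] HasDerivedCategory.standard

noncomputable section

namespace Groth.Agent.DerSchH7

open Groth.Agent.DRingLib Groth.Agent.DCohLib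

variable {X Y Z : Scheme.{u}}

/-- Stalk complexes over the base as restrictions. -/
def stalkCxOverResIso (f : X ⟶ Y) (x : X) (F : CochainComplex X.Modules ℤ) :
    (DerSch.stalkCxOver f x).obj F ≅
      (DTen.resCx (f.stalkMap x).hom).obj (((stkF x).mapHomologicalComplex (ComplexShape.up ℤ)).obj F) :=
  HomologicalComplex.Hom.isoOfComponents (fun _ => Iso.refl _)
    (fun _ _ _ => (Category.id_comp _).trans (Category.comp_id _).symm)

/-- The stalk over the base of the tensor product with an inverse image. -/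
def stalkTensorPullIso (f : X ⟶ Y) (x : X) (P : CochainComplex Y.Modules ℤ) (F : CochainComplex X.Modules ℤ) :
    (DerSch.stalkCxOver f x).obj ((DCoh.tensorCx.obj (((Scheme.Modules.pullback f).mapHomologicalComplex
        (ComplexShape.up ℤ)).obj P)).obj F) ≅
      ((DerSch.stalkCxOver f x).obj F ⊗
        ((stkF (f.base x)).mapHomologicalComplex (ComplexShape.up ℤ)).obj P :
        DRing.Cx (Y.presheaf.stalk (f.base x))) :=
  letI := (f.stalkMap x).hom.toAlgebra
  let A := Y.presheaf.stalk (f.base x)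
  let B := X.presheaf.stalk x
  let F' : DRing.Cx B := ((stkF x).mapHomologicalComplex (ComplexShape.up ℤ)).obj F
  let G' : DRing.Cx A := ((stkF (f.base x)).mapHomologicalComplex (ComplexShape.up ℤ)).obj P
  let bG : DRing.Cx B := ((bcF A B).mapHomologicalComplex (ComplexShape.up ℤ)).obj G'
  stalkCxOverResIso f x _ ≪≫
    (DTen.resCx (f.stalkMap x).hom).mapIso
      (stalkTensorCxIso x _ F ≪≫
        whiskerRightIso (mapCxSquareIso (Scheme.Modules.pullback f) (stkF x) (stkF (f.base x))
          (bcF A B) (pullStalkNatIso f x) P) F' ≪≫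
        DTen.braidCx bG F') ≪≫
    KFlat.mapTotIso
      (F := curriedTensor (ModuleCat.{u} B) ⋙ (Functor.whiskeringLeft _ _ _).obj (bcF A B))
      (F' := resF' A B ⋙ curriedTensor (ModuleCat.{u} A)) (G := resF' A B) (cancelNatIso A B) F' G' ≪≫
    whiskerRightIso (stalkCxOverResIso f x F).symm G'

/-- Tor amplitude of a derived tensor product with a derived inverse image. -/
theorem hasTorAmplitudeD_lTensor_lpull (f : X ⟶ Y) (g : Y ⟶ Z) (F : CochainComplex X.Modules ℤ) {a b c d : ℤ}
    (hF : DerSch.HasTorAmplitude f a b F) (G : CochainComplex Y.Modules ℤ)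
    (hG : DerSch.HasTorAmplitude g c d G) [DCoh.HasLpull f] [DCoh.HasLTensorCx F] :
    DerSch.HasTorAmplitudeD (f ≫ g) (a + c) (b + d)
      ((DCoh.LTensorCx F).obj ((DCoh.Lpull f).obj (DCoh.toD Y G))) := by
  intro W hW
  obtain ⟨eW⟩ := hW
  intro x
  let P := (resX Y).obj G
  haveI := quasiIso_resXπ G
  haveI : IsIso (DerivedCategory.Q.map ((resXπ Y).app G)) :=
    Localization.inverts DerivedCategory.Q (HomologicalComplex.quasiIso Y.Modules (ComplexShape.up ℤ)) _
      ((HomologicalComplex.mem_quasiIso_iff _).2 inferInstance)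
  let eG : DCoh.toD Y P ≅ DCoh.toD Y G := asIso (DerivedCategory.Q.map ((resXπ Y).app G))
  let fP := ((Scheme.Modules.pullback f).mapHomologicalComplex (ComplexShape.up ℤ)).obj P
  haveI := isIso_lTensorCounit_app F fP (isKFlat_pullback f (isKFlat_resX G))
  let T := (DCoh.tensorCx.obj fP).obj F
  let eT : DCoh.toD X T ≅ (DCoh.LTensorCx F).obj ((DCoh.Lpull f).obj (DCoh.toD Y G)) :=
    (asIso ((lTensorCounit F).app fP)).symm ≪≫
      (DCoh.LTensorCx F).mapIso ((lpullIso f _ (isKFlat_resX G) (isFlat_resX G)).symm ≪≫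
        (DCoh.Lpull f).mapIso eG)
  refine hasTorAmplitudeAt_congr _ (eT ≪≫ eW.symm) ?_
  let G' : DRing.Cx (Y.presheaf.stalk (f.base x)) :=
    ((stkF (f.base x)).mapHomologicalComplex (ComplexShape.up ℤ)).obj P
  have hG' : DRing.HasTorAmplitudeIn (Z.presheaf.stalk (g.base (f.base x))) c d
      ((DRing.restrictD (g.stalkMap (f.base x)).hom).obj (DRing.toD G')) :=
    amp_of_iso (DerivedCategory.Q.mapIso (stalkCxOverResIso g (f.base x) P) ≪≫
      ((DTen.resFactors (g.stalkMap (f.base x)).hom).app G').symm)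
      (hasTorAmplitudeAt_congr g eG.symm (hG (f.base x)))
  have h := amp_tensor_trans (g.stalkMap (f.base x)).hom ((DerSch.stalkCxOver f x).obj F) G'
    ((isKFlat_iff_stalk P).1 (isKFlat_resX G) (f.base x)) (hF x) hG'
  exact amp_of_iso ((DTen.resFactors (g.stalkMap (f.base x)).hom).app _ ≪≫
    DerivedCategory.Q.mapIso ((DTen.resCx (g.stalkMap (f.base x)).hom).mapIso (stalkTensorPullIso f x P F).symm ≪≫
      (stalkCxOverCompIso f g x T).symm)) h

/-- The stalk over the base of an inverse image. -/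
def stalkPullIso (f : X ⟶ Y) (x : X) (P : CochainComplex Y.Modules ℤ) :
    (DerSch.stalkCxOver f x).obj (((Scheme.Modules.pullback f).mapHomologicalComplex (ComplexShape.up ℤ)).obj P) ≅
      ((DerSch.stalkCxOver f x).obj (DerSch.unitCx X) ⊗
        ((stkF (f.base x)).mapHomologicalComplex (ComplexShape.up ℤ)).obj P :
        DRing.Cx (Y.presheaf.stalk (f.base x))) :=
  letI := (f.stalkMap x).hom.toAlgebra
  let A := Y.presheaf.stalk (f.base x)
  let B := X.presheaf.stalk x
  let L : DRing.Cx B := single₀ (ModuleCat.of B B)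
  let G' : DRing.Cx A := ((stkF (f.base x)).mapHomologicalComplex (ComplexShape.up ℤ)).obj P
  let bG : DRing.Cx B := ((bcF A B).mapHomologicalComplex (ComplexShape.up ℤ)).obj G'
  let ρ : (L ⊗ bG : DRing.Cx B) ≅ bG :=
    (singleTensorIso (ModuleCat.of B B) bG).symm ≪≫
      (NatIso.mapHomologicalComplex (leftUnitorNatIso (ModuleCat.{u} B)) (ComplexShape.up ℤ)).app bG ≪≫
      (Functor.mapHomologicalComplexIdIso (ModuleCat.{u} B) (ComplexShape.up ℤ)).app bG
  stalkCxOverResIso f x _ ≪≫
    (DTen.resCx (f.stalkMap x).hom).mapIso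
      (mapCxSquareIso (Scheme.Modules.pullback f) (stkF x) (stkF (f.base x))
          (bcF A B) (pullStalkNatIso f x) P ≪≫ ρ.symm) ≪≫
    KFlat.mapTotIso
      (F := curriedTensor (ModuleCat.{u} B) ⋙ (Functor.whiskeringLeft _ _ _).obj (bcF A B))
      (F' := resF' A B ⋙ curriedTensor (ModuleCat.{u} A)) (G := resF' A B) (cancelNatIso A B) L G' ≪≫
    whiskerRightIso (stalkUnitCxIso f x).symm G'

/-- Tor amplitude of a derived inverse image. -/
theorem hasTorAmplitudeD_lpull (f : X ⟶ Y) (g : Y ⟶ Z) {a b c d : ℤ}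
    (hf : DerSch.HasTorAmplitude f a b (DerSch.unitCx X)) (G : CochainComplex Y.Modules ℤ)
    (hG : DerSch.HasTorAmplitude g c d G) [DCoh.HasLpull f] :
    DerSch.HasTorAmplitudeD (f ≫ g) (a + c) (b + d) ((DCoh.Lpull f).obj (DCoh.toD Y G)) := by
  intro W hW
  obtain ⟨eW⟩ := hW
  intro x
  let P := (resX Y).obj G
  haveI := quasiIso_resXπ G
  haveI : IsIso (DerivedCategory.Q.map ((resXπ Y).app G)) :=
    Localization.inverts DerivedCategory.Q (HomologicalComplex.quasiIso Y.Modules (ComplexShape.up ℤ)) _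
      ((HomologicalComplex.mem_quasiIso_iff _).2 inferInstance)
  let eG : DCoh.toD Y P ≅ DCoh.toD Y G := asIso (DerivedCategory.Q.map ((resXπ Y).app G))
  let fP := ((Scheme.Modules.pullback f).mapHomologicalComplex (ComplexShape.up ℤ)).obj P
  let eT : DCoh.toD X fP ≅ (DCoh.Lpull f).obj (DCoh.toD Y G) :=
    (lpullIso f _ (isKFlat_resX G) (isFlat_resX G)).symm ≪≫ (DCoh.Lpull f).mapIso eG
  refine hasTorAmplitudeAt_congr _ (eT ≪≫ eW.symm) ?_
  let G' : DRing.Cx (Y.presheaf.stalk (f.base x)) :=
    ((stkF (f.base x)).mapHomologicalComplex (ComplexShape.up ℤ)).obj P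
  have hG' : DRing.HasTorAmplitudeIn (Z.presheaf.stalk (g.base (f.base x))) c d
      ((DRing.restrictD (g.stalkMap (f.base x)).hom).obj (DRing.toD G')) :=
    amp_of_iso (DerivedCategory.Q.mapIso (stalkCxOverResIso g (f.base x) P) ≪≫
      ((DTen.resFactors (g.stalkMap (f.base x)).hom).app G').symm)
      (hasTorAmplitudeAt_congr g eG.symm (hG (f.base x)))
  have h := amp_tensor_trans (g.stalkMap (f.base x)).hom ((DerSch.stalkCxOver f x).obj (DerSch.unitCx X)) G'
    ((isKFlat_iff_stalk P).1 (isKFlat_resX G) (f.base x)) (hf x) hG'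
  exact amp_of_iso ((DTen.resFactors (g.stalkMap (f.base x)).hom).app _ ≪≫
    DerivedCategory.Q.mapIso ((DTen.resCx (g.stalkMap (f.base x)).hom).mapIso (stalkPullIso f x P).symm ≪≫
      (stalkCxOverCompIso f g x fP).symm)) h

end Groth.Agent.DerSchH7
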