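import Groth.Agent.DerSchH7.Local
import Groth.Agent.DCohLib.PCTop
import Groth.Agent.DCohLib.SuppOpen
import Groth.Prelude.Def_DerSch2

/-! Relatively pseudo-coherent objects are bounded above. -/

set_option autoImplicit false
set_option backward.isDefEq.respectTransparency false

universe u

open CategoryTheory Limits AlgebraicGeometry
attribute [local instance] HasDerivedCategory.standard

noncomputable section

namespace Groth.Agent.DerSchH7

open Groth.Agent.DCohLib

variable {X Y : Scheme.{u}}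

theorem exists_isZero_above_of_pc [CompactSpace X] {m : ℤ} {K : DCoh.D X} (h : DCoh.IsPseudoCoherentD m K) :
    ∃ b : ℤ, ∀ j, b < j → IsZero (DCoh.HD K j) := by
  choose V hxV E α hE hα using (isPseudoCoherentD_iff m K).1 h
  choose c d hcd using fun x => (hE x).1
  obtain ⟨t, ht⟩ := isCompact_univ.elim_finite_subcover (fun x => (V x : Set X)) (fun x => (V x).isOpen)
    fun x _ => Set.mem_iUnion.2 ⟨x, hxV x⟩
  obtain ⟨B, hB⟩ := (t.finite_toSet.image d).bddAbove
  refine ⟨max B m, fun j hj => isZero_of_stalks fun x => ?_⟩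
  obtain ⟨y, hy, hxy⟩ := Set.mem_iUnion₂.1 (ht (Set.mem_univ x))
  have hyB : d y ≤ B := hB ⟨y, hy, rfl⟩
  haveI := ((mIso_iff m (α y)).1 (hα y)).1 j (lt_of_le_of_lt (le_max_right B m) hj)
  have hjd : d y < j := lt_of_le_of_lt (hyB.trans (le_max_left B m)) hj
  have h0 : IsZero ((Scheme.Modules.restrictFunctor (V y).ι).obj (DCoh.HD K j)) :=
    (((HomologicalComplex.exactAt_iff_isZero_homology _ _).1
        (ShortComplex.exact_of_isZero_X₂ _ (hcd y j (Or.inr hjd)))).of_iso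
      ((asIso ((DerivedCategory.homologyFunctor _ j).map (α y))).symm ≪≫
        (DerivedCategory.homologyFunctorFactors _ j).app (E y))).of_iso (restrictHDIso (V y).ι K j).symm
  exact ((Scheme.Modules.restrictStalkNatIso (V y).ι ⟨x, hxy⟩).app (DCoh.HD K j)).addCommGroupIsoToAddEquiv.toEquiv.subsingleton_congr.1
    (subsingleton_stalk_of_isZero h0 _)

theorem subsingleton_stalk_of_push (i : X ⟶ Y) [IsClosedImmersion i] (F : CochainComplex X.Modules ℤ) (j : ℤ)
    (h : IsZero ((((Scheme.Modules.pushforward i).mapHomologicalComplex (ComplexShape.up ℤ)).obj F).homology j))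
    (x : X) : Subsingleton ((F.homology j).presheaf.stalk x) := by
  let P := ((Scheme.Modules.pushforward i).mapHomologicalComplex (ComplexShape.up ℤ)).obj F
  have h1 : IsZero ((((stkF (i.base x)).mapHomologicalComplex (ComplexShape.up ℤ)).obj P).homology j) :=
    ((stkF (i.base x)).map_isZero h).of_iso ((P.sc j).mapHomologyIso (stkF (i.base x)))
  have h2 : IsZero ((DerSch.stalkOver i x).obj (F.homology j)) :=
    (h1.of_iso ((HomologicalComplex.homologyFunctor _ _ j).mapIso (pushStalkCxIso i x F)).symm).of_iso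
      ((F.sc j).mapHomologyIso (DerSch.stalkOver i x)).symm
  exact ModuleCat.subsingleton_of_isZero h2

theorem exists_bound_chart {m : ℤ} {K : DCoh.D X} {U : X.Opens} {V : Y.Opens} {n : ℕ}
    {φ : MvPolynomial (Fin n) Γ(Y, V) →+* Γ(X, U)} (hU : IsAffineOpen U) (hφ : Function.Surjective φ)
    (h : DerSch.ChartPC m K U V φ) : ∃ b : ℤ, ∀ j, b < j → ∀ x ∈ U, Subsingleton ((DCoh.HD K j).presheaf.stalk x) := by
  haveI : IsIso U.toSpecΓ := by
    rw [← hU.isoSpec_hom]
    infer_instance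
  haveI : IsClosedImmersion (DerSch.chartImm U φ) := by
    have h1 : IsClosedImmersion (Spec.map (CommRingCat.ofHom φ)) :=
      IsClosedImmersion.spec_of_surjective _ hφ
    delta DerSch.chartImm
    infer_instance
  let G := DerivedCategory.Q.objPreimage K
  let eG : DCoh.toD X G ≅ K := DerivedCategory.Q.objObjPreimageIso K
  let F := (resCx U.ι).obj G
  obtain ⟨b, hb⟩ := exists_isZero_above_of_pc (h G ⟨eG⟩)
  refine ⟨b, fun j hj x hx => ?_⟩
  have h1 := subsingleton_stalk_of_push (DerSch.chartImm U φ) F j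
    ((hb j hj).of_iso ((DerivedCategory.homologyFunctorFactors _ j).app _).symm) ⟨x, hx⟩
  let e : (Scheme.Modules.restrictFunctor U.ι).obj (DCoh.HD K j) ≅ F.homology j :=
    (restrictHDIso U.ι K j).symm ≪≫
      (DerivedCategory.homologyFunctor _ j).mapIso ((DCoh.restrictD U.ι).mapIso eG.symm ≪≫ restrictDQ U.ι G) ≪≫
      (DerivedCategory.homologyFunctorFactors _ j).app F
  have h2 : Subsingleton (((Scheme.Modules.restrictFunctor U.ι).obj (DCoh.HD K j)).presheaf.stalk ⟨x, hx⟩) :=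
    ((stkF (X := (U : Scheme.{u})) ⟨x, hx⟩).mapIso e).toLinearEquiv.toEquiv.subsingleton_congr.2 h1
  exact ((Scheme.Modules.restrictStalkNatIso U.ι ⟨x, hx⟩).app (DCoh.HD K j)).addCommGroupIsoToAddEquiv.toEquiv.subsingleton_congr.1 h2

theorem exists_isLE_of_rel [CompactSpace X] {f : X ⟶ Y} {m : ℤ} {K : DCoh.D X}
    (h : DerSch.IsPseudoCoherentRel f m K) : ∃ b : ℤ, K.IsLE b := by
  obtain ⟨-, 𝒱, h𝒱, hV⟩ := h
  have key : ∀ x : X, ∃ (U : X.Opens) (b : ℤ), x ∈ U ∧
      ∀ j, b < j → ∀ y ∈ U, Subsingleton ((DCoh.HD K j).presheaf.stalk y) := fun x => by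
    have hy : f.base x ∈ ⨆ V ∈ 𝒱, (V : Y.Opens) := by rw [h𝒱]; trivial
    obtain ⟨V, hy⟩ := TopologicalSpace.Opens.mem_iSup.1 hy
    obtain ⟨hV𝒱, hy⟩ := TopologicalSpace.Opens.mem_iSup.1 hy
    obtain ⟨𝒰, h𝒰, hU⟩ := hV V hV𝒱
    have hx : x ∈ ⨆ U ∈ 𝒰, (U : X.Opens) := by rw [h𝒰]; exact hy
    obtain ⟨U, hx⟩ := TopologicalSpace.Opens.mem_iSup.1 hx
    obtain ⟨hU𝒰, hx⟩ := TopologicalSpace.Opens.mem_iSup.1 hx
    have hle : (U : X.Opens) ≤ f ⁻¹ᵁ (V : Y.Opens) := by
      rw [← h𝒰]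
      exact le_biSup (fun U : X.affineOpens => (U : X.Opens)) hU𝒰
    obtain ⟨n, φ, hφ, hpc⟩ := hU U hU𝒰 hle
    obtain ⟨b, hb⟩ := exists_bound_chart U.2 hφ.1 hpc
    exact ⟨U, b, hx, hb⟩
  choose U b hxU hb using key
  obtain ⟨t, ht⟩ := isCompact_univ.elim_finite_subcover (fun x => (U x : Set X)) (fun x => (U x).isOpen)
    fun x _ => Set.mem_iUnion.2 ⟨x, hxU x⟩
  obtain ⟨B, hB⟩ := (t.finite_toSet.image b).bddAbove
  refine ⟨B, (DerivedCategory.isLE_iff K B).2 fun j hj => isZero_of_stalks fun x => ?_⟩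
  obtain ⟨y, hy, hxy⟩ := Set.mem_iUnion₂.1 (ht (Set.mem_univ x))
  exact hb y j (lt_of_le_of_lt (hB ⟨y, hy, rfl⟩) hj) x hxy

end Groth.Agent.DerSchH7
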