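import Groth.Agent.DerSchH7.Push
import Groth.Agent.DCohLib.StalkRestrictFree
import Groth.Agent.DCohLib.PerfCrit

/-! Tor amplitude is local on the source. -/

set_option autoImplicit false
set_option backward.isDefEq.respectTransparency false

universe u

open CategoryTheory Limits AlgebraicGeometry
attribute [local instance] HasDerivedCategory.standard

noncomputable section

namespace Groth.Agent.DerSchH7

open Groth.Agent.DRingLib Groth.Agent.DCohLib

variable {X U : Scheme.{u}} (j : U ⟶ X) [IsOpenImmersion j]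

/-- The stalk of a restriction, as a module over the local ring downstairs. -/
def restrictStalkOverIso (x : U) (M : X.Modules) :
    (DerSch.stalkOver j x).obj ((Scheme.Modules.restrictFunctor j).obj M) ≅ (stkF (j.base x)).obj M :=
  LinearEquiv.toModuleIso
    (X₁ := (DerSch.stalkOver j x).obj ((Scheme.Modules.restrictFunctor j).obj M))
    (X₂ := (stkF (j.base x)).obj M)
    { ((Scheme.Modules.restrictStalkNatIso j x).app M).addCommGroupIsoToAddEquiv with
      map_smul' := fun r m => (restrictStalk_smul j M x (j.stalkMap x r) m).trans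
        (congrArg (· • _) ((asIso (j.stalkMap x)).commRingCatIsoToRingEquiv.symm_apply_apply r)) }

/-- The stalk functor after a restriction. -/
def restrictStalkOverNatIso (x : U) :
    Scheme.Modules.restrictFunctor j ⋙ DerSch.stalkOver j x ≅ stkF (j.base x) :=
  NatIso.ofComponents (restrictStalkOverIso j x) fun {M N} φ => by
    ext m
    exact ConcreteCategory.congr_hom ((Scheme.Modules.restrictStalkNatIso j x).hom.naturality φ) m

/-- The stalk complex of a restriction. -/
def restrictStalkCxIso (x : U) (F : CochainComplex X.Modules ℤ) :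
    (DerSch.stalkCxOver j x).obj ((resCx j).obj F) ≅
      ((stkF (j.base x)).mapHomologicalComplex (ComplexShape.up ℤ)).obj F :=
  HomologicalComplex.Hom.isoOfComponents (fun n => (restrictStalkOverNatIso j x).app (F.X n))
    (fun n m _ => ((restrictStalkOverNatIso j x).hom.naturality (F.d n m)).symm)

theorem hasTorAmplitudeAt_id_of_restrict {F : CochainComplex X.Modules ℤ} {a b : ℤ}
    (h : DerSch.HasTorAmplitude (𝟙 U) a b ((resCx j).obj F)) (x : U) :
    DerSch.HasTorAmplitudeAt (𝟙 X) a b F (j.base x) := by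
  have h' : DerSch.HasTorAmplitude j a b ((resCx j).obj F) := by
    have := hasTorAmplitude_comp (𝟙 U) j (hasTorDimLE_zero_of_flat j) _ h
    rwa [Category.id_comp, add_zero, add_zero] at this
  exact (hasTorAmplitudeAt_id_iff F a b _).2
    (amp_of_iso (DerivedCategory.Q.mapIso (restrictStalkCxIso j x F)) (h' x))

/-- Flat amplitude is local. -/
theorem hasFlatAmplitudeIn_of_local {K : DCoh.D X} {a b : ℤ}
    (h : ∀ x : X, ∃ V : X.Opens, x ∈ V ∧ DCoh.HasFlatAmplitudeIn a b ((DCoh.restrictD V.ι).obj K)) :
    DCoh.HasFlatAmplitudeIn a b K := by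
  let F := DerivedCategory.Q.objPreimage K
  let eF : DCoh.toD X F ≅ K := DerivedCategory.Q.objObjPreimageIso K
  obtain ⟨E, hE, hfl, ⟨e⟩⟩ := flatAmplitude_of_hasTorAmplitude_id (F := F) (a := a) (b := b) fun x => by
    obtain ⟨V, hx, E, hE, hfl, ⟨e⟩⟩ := h x
    exact hasTorAmplitudeAt_id_of_restrict V.ι (hasTorAmplitude_id_of_flatAmplitude
      ⟨E, hE, hfl, ⟨e ≪≫ (DCoh.restrictD V.ι).mapIso eF.symm ≪≫ restrictDQ V.ι F⟩⟩) ⟨x, hx⟩
  exact ⟨E, hE, hfl, ⟨e ≪≫ eF⟩⟩

end Groth.Agent.DerSchH7
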