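import Groth.Agent.DerSchH7.Trans
import Groth.Agent.ParaFLib.Stalk
import Groth.Prelude.Def_DerSch

/-! Stalk complexes over the base. -/

set_option autoImplicit false
set_option backward.isDefEq.respectTransparency false

universe u

open CategoryTheory Limits AlgebraicGeometry
attribute [local instance] HasDerivedCategory.standard

noncomputable section

namespace Groth.Agent.DerSchH7

open Groth.Agent.DRingLib

variable {X Y Z : Scheme.{u}}

/-- The stalk of the structure sheaf as a module over itself. -/
def stalkUnitIso (x : X) :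
    ModuleCat.of (X.presheaf.stalk x) (X.presheaf.stalk x) ≅
      (DerSch.stalkFunctor X x).obj (Coh.structureModule X) :=
  (LinearEquiv.ofBijective (LinearMap.toSpanSingleton (X.presheaf.stalk x) _ (ParaFLib.oneG x))
    (ParaFLib.bijective_oneG x)).toModuleIso

/-- Stalks of the structure complex. -/
def stalkUnitCxIso (g : X ⟶ Y) (x : X) :
    (DerSch.stalkCxOver g x).obj (DerSch.unitCx X) ≅
      (DTen.resCx (g.stalkMap x).hom).obj (single₀ (ModuleCat.of (X.presheaf.stalk x) (X.presheaf.stalk x))) :=
  (HomologicalComplex.singleMapHomologicalComplex (DerSch.stalkOver g x) (ComplexShape.up ℤ) 0).app _ ≪≫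
    (HomologicalComplex.single _ (ComplexShape.up ℤ) 0).mapIso
      ((ModuleCat.restrictScalars (g.stalkMap x).hom).mapIso (stalkUnitIso x).symm) ≪≫
    ((HomologicalComplex.singleMapHomologicalComplex (ModuleCat.restrictScalars (g.stalkMap x).hom)
      (ComplexShape.up ℤ) 0).app _).symm

/-- Stalk complexes along a composite. -/
def stalkCxOverCompIso (f : X ⟶ Y) (g : Y ⟶ Z) (x : X) (F : CochainComplex X.Modules ℤ) :
    (DerSch.stalkCxOver (f ≫ g) x).obj F ≅
      (DTen.resCx (g.stalkMap (f.base x)).hom).obj ((DerSch.stalkCxOver f x).obj F) :=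
  HomologicalComplex.Hom.isoOfComponents
    (fun i => (ModuleCat.restrictScalarsComp' (g.stalkMap (f.base x)).hom (f.stalkMap x).hom
      ((f ≫ g).stalkMap x).hom (by rw [Scheme.Hom.stalkMap_comp]; rfl)).app _)
    (fun i j _ => ((ModuleCat.restrictScalarsComp' (g.stalkMap (f.base x)).hom (f.stalkMap x).hom
      ((f ≫ g).stalkMap x).hom (by rw [Scheme.Hom.stalkMap_comp]; rfl)).hom.naturality
        ((DerSch.stalkFunctor X x).map (F.d i j))).symm)

theorem hasTorAmplitude_comp (f : X ⟶ Y) (g : Y ⟶ Z) {c d : ℤ}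
    (hg : DerSch.HasTorAmplitude g c d (DerSch.unitCx Y)) (F : CochainComplex X.Modules ℤ) {a b : ℤ}
    (hF : DerSch.HasTorAmplitude f a b F) : DerSch.HasTorAmplitude (f ≫ g) (a + c) (b + d) F := fun x => by
  have h := amp_trans (g.stalkMap (f.base x)).hom (hF x)
    (amp_of_iso (DerivedCategory.Q.mapIso (stalkUnitCxIso g (f.base x)) ≪≫
      ((DTen.resFactors (g.stalkMap (f.base x)).hom).app _).symm) (hg (f.base x)))
  exact amp_of_iso ((DTen.resFactors (g.stalkMap (f.base x)).hom).app _ ≪≫
    DerivedCategory.Q.mapIso (stalkCxOverCompIso f g x F).symm) h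

end Groth.Agent.DerSchH7
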