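import Groth.Agent.DCohLib.Symm
import Groth.Agent.DCohLib.LeftDer

/-!
# The derived tensor product of complexes of modules on a site
-/

set_option autoImplicit false
set_option backward.isDefEq.respectTransparency false
set_option linter.style.haveILetI false

universe u

open CategoryTheory Limits

attribute [local instance] HasDerivedCategory.standard

noncomputable section

namespace Groth.Agent.DerSchH7

open Groth.Agent.DCohLib

variable {C : Type u} [SmallCategory C] {J : GrothendieckTopology C} (O : Sheaf J CommRingCat.{u})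

theorem quasiIso_resF_map {K L : CochainComplex (ModSite.Mod O) ℤ} (f : K ⟶ L) (hf : QuasiIso f) :
    QuasiIso ((resF O).map f) := by
  haveI := hf
  haveI := quasiIso_resFπ O K
  haveI := quasiIso_resFπ O L
  haveI : QuasiIso ((resF O).map f ≫ (resFπ O).app L) := by
    rw [(resFπ O).naturality f]
    exact inferInstanceAs (QuasiIso ((resFπ O).app K ≫ f))
  exact quasiIso_of_comp_right _ ((resFπ O).app L)

theorem isIso_tensorCxQ_map_site {P Q : CochainComplex (ModSite.Mod O) ℤ} (α : P ⟶ Q) (hα : QuasiIso α)
    (hP : ModSite.IsKFlat P) (hQ : ModSite.IsKFlat Q) (E : CochainComplex (ModSite.Mod O) ℤ) :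
    IsIso ((ModSite.tensorCxQ E).map α) := by
  haveI := hα
  haveI h : QuasiIso (((ModSite.tensorCx O).map α).app E) :=
    @quasiIso_tensor_left _ _ _ O P Q α hα hP hQ E
  exact Localization.inverts DerivedCategory.Q
    (HomologicalComplex.quasiIso (ModSite.Mod O) (ComplexShape.up ℤ)) _
    ((HomologicalComplex.mem_quasiIso_iff _).2 h)

/-- The resolution adapted to `- ⊗ E` on a site. -/
def siteAdapted (E : CochainComplex (ModSite.Mod O) ℤ) :
    Adapted (HomologicalComplex.quasiIso (ModSite.Mod O) (ComplexShape.up ℤ)) (ModSite.tensorCxQ E) where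
  P := resF O
  ψ := resFπ O
  hψ K := (HomologicalComplex.mem_quasiIso_iff _).2 (quasiIso_resFπ O K)
  inverts K L f hf := isIso_tensorCxQ_map_site O _
    (quasiIso_resF_map O f ((HomologicalComplex.mem_quasiIso_iff _).1 hf))
    (isKFlat_resF O K) (isKFlat_resF O L) E
  isIso_map K := isIso_tensorCxQ_map_site O _ (quasiIso_resFπ O _) (isKFlat_resF O _) (isKFlat_resF O _) E

/-- The comparison map on a site. -/
abbrev siteCounit (E : CochainComplex (ModSite.Mod O) ℤ) [ModSite.HasLTensorCx E] :
    DerivedCategory.Q ⋙ ModSite.LTensorCx E ⟶ ModSite.tensorCxQ E :=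
  (ModSite.tensorCxQ E).totalLeftDerivedCounit DerivedCategory.Q
    (HomologicalComplex.quasiIso (ModSite.Mod O) (ComplexShape.up ℤ))

theorem isIso_siteCounit_app (E : CochainComplex (ModSite.Mod O) ℤ) [ModSite.HasLTensorCx E]
    (K : CochainComplex (ModSite.Mod O) ℤ) (hK : ModSite.IsKFlat K) : IsIso ((siteCounit O E).app K) :=
  (siteAdapted O E).isIso_app DerivedCategory.Q (ModSite.LTensorCx E) (siteCounit O E) K
    (isIso_tensorCxQ_map_site O _ (quasiIso_resFπ O K) (isKFlat_resF O K) hK E)

theorem isIso_siteCounit_app_of_isKFlat (E : CochainComplex (ModSite.Mod O) ℤ) (hE : ModSite.IsKFlat E)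
    [ModSite.HasLTensorCx E] (K : CochainComplex (ModSite.Mod O) ℤ) : IsIso ((siteCounit O E).app K) := by
  refine (siteAdapted O E).isIso_app DerivedCategory.Q (ModSite.LTensorCx E) (siteCounit O E) K ?_
  haveI h : QuasiIso (((ModSite.tensorCx O).map ((resFπ O).app K)).app E) :=
    @Groth.Agent.KFlat.quasiIso_tensor_of_isKFlat_right _ _ _ O E hE _ _
      ((resFπ O).app K) (quasiIso_resFπ O K)
  exact Localization.inverts DerivedCategory.Q
    (HomologicalComplex.quasiIso (ModSite.Mod O) (ComplexShape.up ℤ)) _
    ((HomologicalComplex.mem_quasiIso_iff _).2 h)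

end Groth.Agent.DerSchH7
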