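import Groth.Agent.DerSchH7.RelBound
import Groth.Agent.DCohLib.QCohHD
import Groth.Agent.DCohLib.ClosedPush

/-! Relatively pseudo-coherent objects have quasi-coherent cohomology. -/

set_option autoImplicit false
set_option backward.isDefEq.respectTransparency false

universe u

open CategoryTheory Limits AlgebraicGeometry
attribute [local instance] HasDerivedCategory.standard

noncomputable section

namespace Groth.Agent.DerSchH7

open Groth.Agent.DCohLib

variable {X Y : Scheme.{u}}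

theorem isQCoh_homology_of_push (i : X ⟶ Y) [IsClosedImmersion i] (F : CochainComplex X.Modules ℤ) (j : ℤ)
    (h : Coh.IsQCoh ((((Scheme.Modules.pushforward i).mapHomologicalComplex (ComplexShape.up ℤ)).obj F).homology j)) :
    Coh.IsQCoh (F.homology j) := by
  haveI : PreservesLimitsOfSize.{0, 0} (Scheme.Modules.pushforward i) :=
    (Scheme.Modules.pullbackPushforwardAdjunction i).rightAdjoint_preservesLimits
  haveI : PreservesFiniteLimits (Scheme.Modules.pushforward i) := inferInstance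
  haveI : (Scheme.Modules.pushforward i).PreservesHomology :=
    Functor.preservesHomology_of_preservesEpis_and_kernels _
  have h1 : Coh.IsQCoh ((Scheme.Modules.pushforward i).obj (F.homology j)) :=
    isQCoh_of_iso' ((F.sc j).mapHomologyIso (Scheme.Modules.pushforward i)) h
  haveI := h1
  haveI := isIso_counit_closedImmersion i (F.homology j)
  exact isQCoh_of_iso' (asIso ((Scheme.Modules.pullbackPushforwardAdjunction i).counit.app (F.homology j)))
    (PullbackMod.isQCoh_pullback i _)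

theorem isQCoh_HD_chart {m : ℤ} {K : DCoh.D X} {U : X.Opens} {V : Y.Opens} {n : ℕ}
    {φ : MvPolynomial (Fin n) Γ(Y, V) →+* Γ(X, U)} (hU : IsAffineOpen U) (hφ : Function.Surjective φ)
    (h : DerSch.ChartPC m K U V φ) (j : ℤ) (hj : m < j) :
    Coh.IsQCoh ((Scheme.Modules.restrictFunctor U.ι).obj (DCoh.HD K j)) := by
  haveI : IsIso U.toSpecΓ := by
    rw [← hU.isoSpec_hom]
    infer_instance
  haveI : IsClosedImmersion (DerSch.chartImm U φ) := by
    have h1 : IsClosedImmersion (Spec.map (CommRingCat.ofHom φ)) :=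
      IsClosedImmersion.spec_of_surjective _ hφ
    delta DerSch.chartImm
    infer_instance
  let G := DerivedCategory.Q.objPreimage K
  let eG : DCoh.toD X G ≅ K := DerivedCategory.Q.objObjPreimageIso K
  let F := (resCx U.ι).obj G
  have h1 : Coh.IsQCoh (F.homology j) := isQCoh_homology_of_push (DerSch.chartImm U φ) F j
    (isQCoh_of_iso' ((DerivedCategory.homologyFunctorFactors _ j).app _)
      ((isQCoh_HD_of_pseudoCoherent (h G ⟨eG⟩)).1 j hj))
  let e : F.homology j ≅ (Scheme.Modules.restrictFunctor U.ι).obj (DCoh.HD K j) :=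
    ((DerivedCategory.homologyFunctorFactors _ j).app F).symm ≪≫
      (DerivedCategory.homologyFunctor _ j).mapIso ((restrictDQ U.ι G).symm ≪≫ (DCoh.restrictD U.ι).mapIso eG) ≪≫
      restrictHDIso U.ι K j
  exact isQCoh_of_iso' e h1

theorem isQCohD_of_relAll {f : X ⟶ Y} {K : DCoh.D X} (h : DerSch.IsPseudoCoherentRelAll f K) :
    DCoh.IsQCohD K := fun j => isQCoh_of_local fun x => by
  obtain ⟨-, 𝒱, h𝒱, hV⟩ := h (j - 1)
  have hy : f.base x ∈ ⨆ V ∈ 𝒱, (V : Y.Opens) := by rw [h𝒱]; trivial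
  obtain ⟨V, hy⟩ := TopologicalSpace.Opens.mem_iSup.1 hy
  obtain ⟨hV𝒱, hy⟩ := TopologicalSpace.Opens.mem_iSup.1 hy
  obtain ⟨𝒰, h𝒰, hU⟩ := hV V hV𝒱
  have hx : x ∈ ⨆ U ∈ 𝒰, (U : X.Opens) := by rw [h𝒰]; exact hy
  obtain ⟨U, hx⟩ := TopologicalSpace.Opens.mem_iSup.1 hx
  obtain ⟨hU𝒰, hx⟩ := TopologicalSpace.Opens.mem_iSup.1 hx
  have hle : (U : X.Opens) ≤ f ⁻¹ᵁ (V : Y.Opens) := by
    rw [← h𝒰]
    exact le_biSup (fun U : X.affineOpens => (U : X.Opens)) hU𝒰
  obtain ⟨n, φ, hφ, hpc⟩ := hU U hU𝒰 hle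
  exact ⟨U, hx, isQCoh_HD_chart U.2 hφ.1 hpc j (by omega)⟩

end Groth.Agent.DerSchH7
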