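import Groth.Agent.DerSchH7.SecFlat
import Groth.Agent.DerSchH7.RelQCoh
import Groth.Agent.TildePerf.PC
import Groth.Agent.TildeD.Exact
import Groth.Agent.PCHomLib.Flat
import Groth.Agent.QCohLib.Push

/-! Relative pseudo-coherence of relatively flat modules. -/

set_option autoImplicit false
set_option backward.isDefEq.respectTransparency false
set_option linter.style.haveILetI false

universe u

open CategoryTheory Limits AlgebraicGeometry TopologicalSpace Opposite
attribute [local instance] HasDerivedCategory.standard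

noncomputable section

namespace Groth.Agent.DerSchH7

open Groth.Agent Groth.Agent.DCohLib

variable {X Y : Scheme.{u}}

theorem preservesHomology_push (i : X ⟶ Y) [IsClosedImmersion i] :
    (Scheme.Modules.pushforward i).PreservesHomology := by
  haveI : PreservesLimitsOfSize.{0, 0} (Scheme.Modules.pushforward i) :=
    (Scheme.Modules.pullbackPushforwardAdjunction i).rightAdjoint_preservesLimits
  haveI : PreservesFiniteLimits (Scheme.Modules.pushforward i) := inferInstance
  exact Functor.preservesHomology_of_preservesEpis_and_kernels _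

theorem isClosedImmersion_chartImm {U : X.Opens} (hU : IsAffineOpen U) {R : Type u} [CommRing R] {n : ℕ}
    {φ : MvPolynomial (Fin n) R →+* Γ(X, U)} (hφ : Function.Surjective φ) :
    IsClosedImmersion (DerSch.chartImm U φ) := by
  haveI : IsIso U.toSpecΓ := by
    rw [← hU.isoSpec_hom]
    infer_instance
  have h1 : IsClosedImmersion (Spec.map (CommRingCat.ofHom φ)) :=
    IsClosedImmersion.spec_of_surjective _ hφ
  delta DerSch.chartImm
  infer_instance

/-- The chart functor on modules: restriction followed by direct image. -/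
abbrev chartFun (U : X.Opens) {R : Type u} [CommRing R] {n : ℕ} (φ : MvPolynomial (Fin n) R →+* Γ(X, U)) :
    X.Modules ⥤ (Spec (CommRingCat.of (MvPolynomial (Fin n) R))).Modules :=
  Scheme.Modules.restrictFunctor U.ι ⋙ Scheme.Modules.pushforward (DerSch.chartImm U φ)

/-- Isomorphic objects have isomorphic charts. -/
theorem nonempty_chart_iso {U : X.Opens} (hU : IsAffineOpen U) {R : Type u} [CommRing R] {n : ℕ}
    {φ : MvPolynomial (Fin n) R →+* Γ(X, U)} (hφ : Function.Surjective φ) {F G : CochainComplex X.Modules ℤ}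
    (e : DCoh.toD X F ≅ DCoh.toD X G) :
    Nonempty (DerivedCategory.Q.obj ((DerSch.pushCx (DerSch.chartImm U φ)).obj ((DCoh.restrictCx U).obj F)) ≅
      DerivedCategory.Q.obj ((DerSch.pushCx (DerSch.chartImm U φ)).obj ((DCoh.restrictCx U).obj G))) := by
  haveI := isClosedImmersion_chartImm hU hφ
  haveI := preservesHomology_push (DerSch.chartImm U φ)
  haveI : PreservesFiniteColimits (Scheme.Modules.pushforward (DerSch.chartImm U φ)) :=
    Functor.preservesFiniteColimits_of_preservesHomology _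
  haveI : PreservesFiniteLimits (Scheme.Modules.pushforward (DerSch.chartImm U φ)) :=
    Functor.preservesFiniteLimits_of_preservesHomology _
  let P := Scheme.Modules.pushforward (DerSch.chartImm U φ)
  exact ⟨(P.mapDerivedCategoryFactors.app _).symm ≪≫
    P.mapDerivedCategory.mapIso ((restrictDQ U.ι F).symm ≪≫ (DCoh.restrictD U.ι).mapIso e ≪≫ restrictDQ U.ι G) ≪≫
    P.mapDerivedCategoryFactors.app _⟩

/-- The chart of a module in degree zero. -/
def chartSingleIso (M : X.Modules) (U : X.Opens) {R : Type u} [CommRing R] {n : ℕ}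
    (φ : MvPolynomial (Fin n) R →+* Γ(X, U)) :
    (DerSch.pushCx (DerSch.chartImm U φ)).obj
        ((DCoh.restrictCx U).obj ((HomologicalComplex.single X.Modules (ComplexShape.up ℤ) 0).obj M)) ≅
      (HomologicalComplex.single _ (ComplexShape.up ℤ) 0).obj ((chartFun U φ).obj M) :=
  (DerSch.pushCx (DerSch.chartImm U φ)).mapIso
      ((HomologicalComplex.singleMapHomologicalComplex (Scheme.Modules.restrictFunctor U.ι)
        (ComplexShape.up ℤ) 0).app M) ≪≫
    (HomologicalComplex.singleMapHomologicalComplex (Scheme.Modules.pushforward (DerSch.chartImm U φ))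
        (ComplexShape.up ℤ) 0).app _

theorem chartPC_single_iff (M : X.Modules) {U : X.Opens} (hU : IsAffineOpen U) {V : Y.Opens} {n : ℕ}
    {φ : MvPolynomial (Fin n) Γ(Y, V) →+* Γ(X, U)} (hφ : Function.Surjective φ) (m : ℤ) :
    DerSch.ChartPC m (DCoh.toD X ((HomologicalComplex.single X.Modules (ComplexShape.up ℤ) 0).obj M)) U V φ ↔
      DCoh.IsPseudoCoherentD m (DerivedCategory.Q.obj
        ((HomologicalComplex.single _ (ComplexShape.up ℤ) 0).obj ((chartFun U φ).obj M))) := by
  constructor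
  · intro h
    exact isPseudoCoherentD_iso (DerivedCategory.Q.mapIso (chartSingleIso M U φ)) (h _ ⟨Iso.refl _⟩)
  · rintro h G ⟨e⟩
    obtain ⟨e'⟩ := nonempty_chart_iso hU hφ e
    exact isPseudoCoherentD_iso (DerivedCategory.Q.mapIso (chartSingleIso M U φ).symm ≪≫ e'.symm) h

theorem chartImm_app_top' (U : X.Opens) {R : Type u} [CommRing R] {n : ℕ}
    (φ : MvPolynomial (Fin n) R →+* Γ(X, U)) :
    (Scheme.ΓSpecIso (CommRingCat.of (MvPolynomial (Fin n) R))).inv ≫ (DerSch.chartImm U φ).appTop =
      CommRingCat.ofHom φ ≫ U.topIso.inv := by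
  unfold DerSch.chartImm
  rw [Scheme.Hom.comp_appTop, Scheme.Opens.toSpecΓ_appTop]
  simp only [← Category.assoc]
  rw [← Scheme.ΓSpecIso_inv_naturality]
  simp

theorem chartImm_app_top (U : X.Opens) {R : Type u} [CommRing R] {n : ℕ}
    (φ : MvPolynomial (Fin n) R →+* Γ(X, U)) (p : MvPolynomial (Fin n) R) :
    (DerSch.chartImm U φ).appTop.hom
        ((Scheme.ΓSpecIso (CommRingCat.of (MvPolynomial (Fin n) R))).inv.hom p) =
      U.topIso.inv.hom (φ p) := by
  have h := congrArg (fun g => (CommRingCat.Hom.hom g) p) (chartImm_app_top' U φ)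
  simpa only [CommRingCat.hom_comp, RingHom.comp_apply, CommRingCat.hom_ofHom] using h

/-- The sections of the chart of a module are its sections on the open, semilinearly along the chart. -/
theorem exists_chart_sections_equiv (M : X.Modules) (U : X.Opens) {R : Type u} [CommRing R] {n : ℕ}
    (φ : MvPolynomial (Fin n) R →+* Γ(X, U)) :
    ∃ e : Γ(M, U) ≃+ ((moduleSpecΓFunctor (R := CommRingCat.of (MvPolynomial (Fin n) R))).obj ((chartFun U φ).obj M)),
      ∀ (p : MvPolynomial (Fin n) R) (s : Γ(M, U)), e (φ p • s) = p • e s := by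
  let W : X.Opens := U.ι ''ᵁ (DerSch.chartImm U φ ⁻¹ᵁ ⊤)
  have hW : W = U := by simp [W]
  refine ⟨(M.presheaf.mapIso (eqToIso hW).op).addCommGroupIsoToAddEquiv, fun p s => ?_⟩
  show M.presheaf.map (eqToHom hW).op (φ p • s) =
    ((U.ι.appIso (DerSch.chartImm U φ ⁻¹ᵁ ⊤)).inv
      ((DerSch.chartImm U φ).app ⊤ ((Scheme.ΓSpecIso (CommRingCat.of (MvPolynomial (Fin n) R))).inv p))) •
        (show Γ(M, W) from M.presheaf.map (eqToHom hW).op s)
  rw [M.map_smul]
  congr 1
  refine Eq.trans ?_ (congrArg _ (chartImm_app_top U φ p).symm)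
  simp
  rfl

theorem flat_chart_sections (f : X ⟶ Y) (M : X.Modules) (hfl : FlatMod.IsFlatOver f M) [Coh.IsQCoh M]
    {U : X.Opens} (hU : IsAffineOpen U) {V : Y.Opens} (hV : IsAffineOpen V) (h : U ≤ f ⁻¹ᵁ V) {n : ℕ}
    {φ : MvPolynomial (Fin n) Γ(Y, V) →+* Γ(X, U)} (hc : φ.comp MvPolynomial.C = (f.appLE V U h).hom) :
    letI := Module.compHom ((moduleSpecΓFunctor (R := CommRingCat.of (MvPolynomial (Fin n) Γ(Y, V)))).obj ((chartFun U φ).obj M))
      (MvPolynomial.C : Γ(Y, V) →+* MvPolynomial (Fin n) Γ(Y, V))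
    Module.Flat Γ(Y, V) ((moduleSpecΓFunctor (R := CommRingCat.of (MvPolynomial (Fin n) Γ(Y, V)))).obj ((chartFun U φ).obj M)) := by
  letI := Module.compHom ((moduleSpecΓFunctor (R := CommRingCat.of (MvPolynomial (Fin n) Γ(Y, V)))).obj ((chartFun U φ).obj M))
      (MvPolynomial.C : Γ(Y, V) →+* MvPolynomial (Fin n) Γ(Y, V))
  letI := Module.compHom Γ(M, U) (f.appLE V U h).hom
  haveI : Module.Flat Γ(Y, V) Γ(M, U) := flat_sections_over f M hU hV h hfl
  obtain ⟨e, he⟩ := exists_chart_sections_equiv M U φ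
  refine Module.Flat.of_linearEquiv (M := Γ(M, U)) (AddEquiv.toLinearEquiv e ?_).symm
  intro r s
  exact (congrArg (fun a => e (a • s)) (RingHom.congr_fun hc r).symm).trans (he (MvPolynomial.C r) s)

theorem pc_single_iff {A : Type u} [CommRing A] (T : (Spec (CommRingCat.of A)).Modules) [Coh.IsQCoh T] (m : ℤ) :
    DCoh.IsPseudoCoherentD m (DerivedCategory.Q.obj ((HomologicalComplex.single _ (ComplexShape.up ℤ) 0).obj T)) ↔
      DRingLib.PC DRingLib.FFree m
        (Dual.inD A ((moduleSpecΓFunctor (R := CommRingCat.of A)).obj T)) := by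
  haveI := TildeD.preservesFiniteLimits_tilde (R := CommRingCat.of A)
  let N : ModuleCat.{u} A := (moduleSpecΓFunctor (R := CommRingCat.of A)).obj T
  haveI hqT : T.IsQuasicoherent := ‹Coh.IsQCoh T›
  haveI : IsIso (Scheme.Modules.fromTildeΓ (R := CommRingCat.of A) T) :=
    Scheme.Modules.isIso_fromTildeΓ_of_isQuasicoherent (R := CommRingCat.of A) T
  let eT : (tilde.functor (CommRingCat.of A)).obj N ≅ T := asIso (Scheme.Modules.fromTildeΓ (R := CommRingCat.of A) T)
  let eN : (DCoh.tildeD (CommRingCat.of A)).obj (Dual.inD A N) ≅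
      DerivedCategory.Q.obj ((HomologicalComplex.single _ (ComplexShape.up ℤ) 0).obj T) :=
    (DCoh.tildeD (CommRingCat.of A)).mapIso (DRingLib.singleQZeroIso N).symm ≪≫ TildePerf.tildeDQ _ ≪≫
      DerivedCategory.Q.mapIso ((HomologicalComplex.singleMapHomologicalComplex
        (tilde.functor (CommRingCat.of A)) (ComplexShape.up ℤ) 0).app N ≪≫
        (HomologicalComplex.single _ (ComplexShape.up ℤ) 0).mapIso eT)
  exact ⟨fun h => (TildePerf.isPseudoCoherentD_tilde_iff _ m).1 (isPseudoCoherentD_iso eN.symm h),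
    fun h => isPseudoCoherentD_iso eN (TildePerf.pc_tilde h)⟩

theorem pc_of_fp_flat {R : Type u} [CommRing R] {n : ℕ} (N : ModuleCat.{u} (MvPolynomial (Fin n) R))
    (h1 : DRingLib.PC DRingLib.FFree (-1) (Dual.inD (MvPolynomial (Fin n) R) N))
    (hfl : letI := Module.compHom N (MvPolynomial.C : R →+* MvPolynomial (Fin n) R); Module.Flat R N) (m : ℤ) :
    DRingLib.PC DRingLib.FFree m (Dual.inD (MvPolynomial (Fin n) R) N) := by
  letI : Module R N := Module.compHom N (MvPolynomial.C : R →+* MvPolynomial (Fin n) R)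
  haveI : IsScalarTower R (MvPolynomial (Fin n) R) N := .of_algebraMap_smul fun _ _ => rfl
  haveI : Module.FinitePresentation (MvPolynomial (Fin n) R) N := (DRingLib.pc_negOne_iff N).1 h1
  haveI : Module.Flat R N := hfl
  exact (PCHomLib.pc_inD_of_flat (R := R) (-m).toNat N).mono (by omega)

theorem chartPC_of_flat (f : X ⟶ Y) (M : X.Modules) (hfl : FlatMod.IsFlatOver f M) [Coh.IsQCoh M]
    {U : X.Opens} (hU : IsAffineOpen U) {V : Y.Opens} (hV : IsAffineOpen V) (h : U ≤ f ⁻¹ᵁ V) {n : ℕ}
    {φ : MvPolynomial (Fin n) Γ(Y, V) →+* Γ(X, U)} (hφ : Function.Surjective φ)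
    (hc : φ.comp MvPolynomial.C = (f.appLE V U h).hom)
    (h1 : DerSch.ChartPC (-1) (DCoh.toD X ((HomologicalComplex.single X.Modules (ComplexShape.up ℤ) 0).obj M)) U V φ)
    (m : ℤ) :
    DerSch.ChartPC m (DCoh.toD X ((HomologicalComplex.single X.Modules (ComplexShape.up ℤ) 0).obj M)) U V φ := by
  haveI := isClosedImmersion_chartImm hU hφ
  haveI : Coh.IsQCoh ((chartFun U φ).obj M) := by
    haveI : Coh.IsQCoh ((Scheme.Modules.restrictFunctor U.ι).obj M) :=
      isQCoh_of_iso' ((Scheme.Modules.restrictFunctorIsoPullback U.ι).app M).symm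
        (PullbackMod.isQCoh_pullback U.ι M)
    exact QCohLib.isQCoh_pushforward (M := (Scheme.Modules.restrictFunctor U.ι).obj M) (DerSch.chartImm U φ)
  refine (chartPC_single_iff M hU hφ m).2 ((pc_single_iff _ m).2 (pc_of_fp_flat _
    ((pc_single_iff _ (-1)).1 ((chartPC_single_iff M hU hφ (-1)).1 h1)) ?_ m))
  exact flat_chart_sections f M hfl hU hV h hc

end Groth.Agent.DerSchH7
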