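import Groth.Agent.DerSchH7.Local
import Groth.Agent.DCohLib.PCTop
import Groth.Prelude.Def_KSix

/-! Perfect amplitude. -/

set_option autoImplicit false
set_option backward.isDefEq.respectTransparency false

universe u

open CategoryTheory Limits AlgebraicGeometry
attribute [local instance] HasDerivedCategory.standard

noncomputable section

namespace Groth.Agent.DerSchH7

open Groth.Agent.DCohLib

variable {X : Scheme.{u}}

theorem isFinLocFree_opcycles {E : CochainComplex X.Modules ℤ} {c : ℤ} (hb : ∀ i, c < i → IsZero (E.X i))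
    (hf : ∀ i, FlatMod.IsFinLocFree (E.X i)) {a b : ℤ} (h : DerSch.HasTorAmplitude (𝟙 X) a b E) :
    FlatMod.IsFinLocFree (E.opcycles a) := by
  have hfl := isFlat_opcycles_of_hasTorAmplitude_id hb (fun i => PullbackMod.isFlat_of_isFinLocFree _ (hf i)) h
  let e : cokernel (E.d (a - 1) a) ≅ E.opcycles a :=
    (colimit.isColimit _).coconePointUniqueUpToIso (E.opcyclesIsCokernel (a - 1) a (by simp))
  refine isFinLocFree_iso e ((PullbackMod.isFinLocFree_iff _).2 ⟨?_, ?_, isFlat_congr e.symm hfl⟩)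
  · exact (QCohLib.isQCoh_image _ (PullbackMod.isQCoh_and_isFP_of_isFinLocFree _ (hf _)).1
      (PullbackMod.isQCoh_and_isFP_of_isFinLocFree _ (hf _)).1).2
  · have h1 := PullbackMod.isQCoh_and_isFP_of_isFinLocFree _ (hf (a - 1))
    have h2 := PullbackMod.isQCoh_and_isFP_of_isFinLocFree _ (hf a)
    haveI := h1.1
    haveI := h1.2
    exact isFP_cokernel _ h1.1 h2.1 (inferInstanceAs (SheafOfModules.IsFiniteType (R := X.ringCatSheaf) (E.X (a - 1))))
      h2.2

theorem exists_strict_rep {E : CochainComplex X.Modules ℤ} (hE : DCoh.IsStrictlyPerfect E) {m n : ℤ}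
    (h : DerSch.HasTorAmplitude (𝟙 X) m n E) :
    ∃ E' : CochainComplex X.Modules ℤ, DCoh.VanishesOutside E' m n ∧
      (∀ i, FlatMod.IsFinLocFree (E'.X i)) ∧
      Nonempty (DerivedCategory.Q.obj E ≅ DerivedCategory.Q.obj E') := by
  obtain ⟨⟨c, d, hcd⟩, hEf⟩ := hE
  haveI : E.IsLE n := (CochainComplex.isLE_iff _ _).2 fun i hi => exactAt_of_hasTorAmplitude_id h i (Or.inr hi)
  let E₁ := E.truncLE n
  have hb : ∀ i, n < i → IsZero (E₁.X i) := fun i hi => CochainComplex.isZero_of_isStrictlyLE E₁ n i hi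
  have hf₁ : ∀ i, FlatMod.IsFinLocFree (E₁.X i) := fun i => by
    rcases lt_trichotomy i n with hi | rfl | hi
    · exact isFinLocFree_iso (CochainComplex.truncLEXIso E n i hi).symm (hEf i)
    · exact isFinLocFree_iso (CochainComplex.truncLEXIsoCycles E i).symm
        (isFinLocFree_cycles hEf d (fun j hj => hcd j (Or.inr hj)) ((d - i).toNat + 1) i
          (fun j hj => exactAt_of_hasTorAmplitude_id h j (Or.inr hj)) (by omega))
    · exact isFinLocFree_of_isZero (hb i hi)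
  haveI hι : IsIso (DerivedCategory.Q.map (E.ιTruncLE n)) :=
    Localization.inverts DerivedCategory.Q (HomologicalComplex.quasiIso X.Modules (ComplexShape.up ℤ)) _
      ((HomologicalComplex.mem_quasiIso_iff _).2 inferInstance)
  have h₁ : DerSch.HasTorAmplitude (𝟙 X) m n E₁ := fun x =>
    hasTorAmplitudeAt_congr _ (asIso (DerivedCategory.Q.map (E.ιTruncLE n))).symm (h x)
  haveI : E₁.IsGE m := (CochainComplex.isGE_iff _ _).2 fun i hi => exactAt_of_hasTorAmplitude_id h₁ i (Or.inl hi)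
  haveI : IsIso (DerivedCategory.Q.map (E₁.πTruncGE m)) :=
    Localization.inverts DerivedCategory.Q (HomologicalComplex.quasiIso X.Modules (ComplexShape.up ℤ)) _
      ((HomologicalComplex.mem_quasiIso_iff _).2 inferInstance)
  refine ⟨E₁.truncGE m, fun i hi => ?_, fun i => ?_,
    ⟨(asIso (DerivedCategory.Q.map (E.ιTruncLE n))).symm ≪≫ asIso (DerivedCategory.Q.map (E₁.πTruncGE m))⟩⟩
  · rcases lt_trichotomy i m with him | rfl | him
    · exact CochainComplex.isZero_of_isStrictlyGE _ m i him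
    · exact (IsZero.of_epi (E₁.pOpcycles i) (hb i (by omega))).of_iso (CochainComplex.truncGEXIsoOpcycles E₁ i)
    · exact (hb i (by omega)).of_iso (CochainComplex.truncGEXIso E₁ m i him)
  · rcases lt_trichotomy i m with hi | rfl | hi
    · exact isFinLocFree_of_isZero (CochainComplex.isZero_of_isStrictlyGE (E₁.truncGE m) m i hi)
    · exact isFinLocFree_iso (CochainComplex.truncGEXIsoOpcycles E₁ i).symm (isFinLocFree_opcycles hb hf₁ h₁)
    · exact isFinLocFree_iso (CochainComplex.truncGEXIso E₁ m i hi).symm (hf₁ i)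

theorem hasPerfectAmplitudeIn_iff (K : DCoh.D X) (m n : ℤ) :
    KSix.HasPerfectAmplitudeIn m n K ↔ DCoh.IsPseudoCoherentD (m - 1) K ∧ DCoh.HasFlatAmplitudeIn m n K := by
  constructor
  · intro h
    refine ⟨((isPerfect_iff_pc K).1 fun x => ?_).1 _, hasFlatAmplitudeIn_of_local fun x => ?_⟩
    · obtain ⟨V, hx, hV⟩ := h x
      exact ⟨V, hx, fun F hF => by
        obtain ⟨E, hE, hEf, he⟩ := hV F hF
        exact ⟨E, ⟨⟨m, n, hE⟩, hEf⟩, he⟩⟩
    · obtain ⟨V, hx, hV⟩ := h x
      obtain ⟨E, hE, hEf, ⟨e⟩⟩ := hV _ ⟨DerivedCategory.Q.objObjPreimageIso K⟩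
      exact ⟨V, hx, E, hE, fun i => PullbackMod.isFlat_of_isFinLocFree _ (hEf i),
        ⟨e.symm ≪≫ (restrictDQ V.ι _).symm ≪≫
          (DCoh.restrictD V.ι).mapIso (DerivedCategory.Q.objObjPreimageIso K)⟩⟩
  · rintro ⟨hpc, hfl⟩ x
    obtain ⟨V, hx, E, hE, ⟨e⟩⟩ := (isPerfect_iff K).1 (isPerfect_of_flatAmplitude m n hfl hpc) x
    obtain ⟨G, hG, hGf, ⟨e'⟩⟩ := hasFlatAmplitudeIn_restrict V.ι hfl
    have h : DerSch.HasTorAmplitude (𝟙 (V : Scheme.{u})) m n E :=
      hasTorAmplitude_id_of_flatAmplitude ⟨G, hG, hGf, ⟨e' ≪≫ e.symm⟩⟩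
    obtain ⟨E', hE', hEf', ⟨e''⟩⟩ := exists_strict_rep hE h
    refine ⟨V, hx, fun F hF => ⟨E', hE', hEf', ?_⟩⟩
    obtain ⟨eF⟩ := hF
    exact ⟨(restrictDQ V.ι F).symm ≪≫ (DCoh.restrictD V.ι).mapIso eF ≪≫ e.symm ≪≫ e''⟩

end Groth.Agent.DerSchH7
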