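import Groth.Agent.DerSchH7.TensorPull
import Groth.Agent.DerSchH7.Local
import Groth.Prelude.Def_DCoh4

/-! Vanishing of cohomology of derived tensor products under a tor amplitude hypothesis. -/

set_option autoImplicit false
set_option backward.isDefEq.respectTransparency false

universe u

open CategoryTheory Limits AlgebraicGeometry MonoidalCategory
attribute [local instance] HasDerivedCategory.standard

noncomputable section

namespace Groth.Agent.DerSchH7

open Groth.Agent.DRingLib Groth.Agent.DCohLib Groth.Agent.DTenLib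

/-- Tor amplitude can be checked after restriction along a ring isomorphism. -/
theorem amp_of_restrict_bijective {R A : Type u} [CommRing R] [CommRing A] (φ : R →+* A)
    (hφ : Function.Bijective φ) (K : DRing.Cx A) {a b : ℤ}
    (h : DRing.HasTorAmplitudeIn R a b (DRing.toD ((DTen.resCx φ).obj K))) :
    DRing.HasTorAmplitudeIn A a b (DRing.toD K) := by
  let σ := RingEquiv.ofBijective φ hφ
  let ψ : A →+* R := σ.symm.toRingHom
  obtain ⟨E, hE, hf, ⟨e⟩⟩ := h
  let ι : (DTen.resCx ψ).obj ((DTen.resCx φ).obj K) ≅ K :=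
    HomologicalComplex.Hom.isoOfComponents
      (fun i => (ModuleCat.restrictScalarsComp'App ψ φ (RingHom.id A)
          (RingHom.ext fun a => (σ.apply_symm_apply a).symm) (K.X i)).symm ≪≫
        ModuleCat.restrictScalarsId'App (RingHom.id A) rfl (K.X i))
      (fun i j _ => by ext; rfl)
  refine ⟨(DTen.resCx ψ).obj E, fun i hi => (ModuleCat.restrictScalars ψ).map_isZero (hE i hi), fun i => ?_,
    ⟨((DTen.resFactors ψ).app E).symm ≪≫ (DRing.restrictD ψ).mapIso e ≪≫ (DTen.resFactors ψ).app _ ≪≫
      DerivedCategory.Q.mapIso ι⟩⟩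
  haveI := hf i
  exact flat_of_semilinear σ (AddEquiv.refl (E.X i)) fun r m => by
    show r • m = σ.symm (σ r) • m
    rw [σ.symm_apply_apply]

/-- A tensor product with a module is exact outside the amplitude. -/
theorem exactAt_tensor_of_amp {A : Type u} [CommRing A] (F G : DRing.Cx A) (hG : DRing.IsKFlat A G)
    (M : ModuleCat.{u} A) (eG : DRing.toD G ≅ DRing.toD (single₀ M)) {a b : ℤ}
    (hF : DRing.HasTorAmplitudeIn A a b (DRing.toD F)) (i : ℤ) (hi : i < a ∨ b < i) :
    (F ⊗ G : DRing.Cx A).ExactAt i := by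
  haveI := hasLTen A
  obtain ⟨X, hX, hXf, ⟨eX⟩⟩ := hF
  have hXk : DRing.IsKFlat A X := isKFlat_of_vanishesAbove (b := b) (fun j hj => hX j (Or.inr hj)) hXf
  haveI := isIso_ε_right F G hG
  haveI := isIso_ε_right X G hG
  haveI := isIso_ε_left X G hXk
  haveI := isIso_ε_left X (single₀ M) hXk
  let e : DRing.toD (F ⊗ G : DRing.Cx A) ≅ DRing.toD (X ⊗ single₀ M : DRing.Cx A) :=
    (asIso ((DTen.ε A).app (F, G))).symm ≪≫
      (DTen.LTen₂ A).mapIso (Iso.prod eX.symm eG) ≪≫ asIso ((DTen.ε A).app (X, single₀ M))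
  have h1 : IsZero ((X ⊗ single₀ M : DRing.Cx A).homology i) :=
    (HomologicalComplex.exactAt_iff_isZero_homology _ _).1
      (ShortComplex.exact_of_isZero_X₂ _ (isZero_tensor_X fun p q hpq => by
        by_cases hp : p < a ∨ b < p
        · exact Or.inl (hX p hp)
        · exact Or.inr (HomologicalComplex.isZero_single_obj_X (ComplexShape.up ℤ) 0 _ q (by omega))))
  exact (HomologicalComplex.exactAt_iff_isZero_homology _ _).2
    (h1.of_iso (((DerivedCategory.homologyFunctorFactors _ i).app _).symm ≪≫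
      (DerivedCategory.homologyFunctor _ i).mapIso e ≪≫ (DerivedCategory.homologyFunctorFactors _ i).app _))

variable {X Y : Scheme.{u}}

theorem hasTorAmplitude_restrict (f : X ⟶ Y) (V : Y.Opens) {F : CochainComplex X.Modules ℤ} {a b : ℤ}
    (hF : DerSch.HasTorAmplitude f a b F) :
    DerSch.HasTorAmplitude (f ∣_ V) a b ((DCoh.restrictCx (f ⁻¹ᵁ V)).obj F) := fun x => by
  let W := f ⁻¹ᵁ V
  have h1 : DerSch.HasTorAmplitudeAt (W.ι ≫ f) a b ((DCoh.restrictCx W).obj F) x := by
    refine amp_of_iso (DerivedCategory.Q.mapIso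
      ((DTen.resCx (f.stalkMap (W.ι.base x)).hom).mapIso (restrictStalkCxIso W.ι x F).symm ≪≫
        (stalkCxOverCompIso W.ι f x _).symm)) ?_
    exact amp_of_iso (DerivedCategory.Q.mapIso (stalkCxOverResIso f (W.ι.base x) F)) (hF (W.ι.base x))
  rw [← morphismRestrict_ι f V] at h1
  exact amp_of_restrict_bijective (V.ι.stalkMap ((f ∣_ V).base x)).hom
    (ConcreteCategory.bijective_of_isIso (V.ι.stalkMap ((f ∣_ V).base x))) _
    (amp_of_iso (DerivedCategory.Q.mapIso (stalkCxOverCompIso (f ∣_ V) V.ι x _)) h1)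

/-- Cohomology vanishes outside the amplitude. -/
theorem isZero_HD_lTensor_lpull (g : X ⟶ Y) (F : CochainComplex X.Modules ℤ) {a b : ℤ}
    (hF : DerSch.HasTorAmplitude g a b F) (M : Y.Modules) [DCoh.HasLpull g] [DCoh.HasLTensorCx F]
    (i : ℤ) (hi : i < a ∨ b < i) :
    IsZero (DCoh.HD ((DCoh.LTensorCx F).obj ((DCoh.Lpull g).obj (DCoh.inD Y M))) i) := by
  let G : CochainComplex Y.Modules ℤ := (HomologicalComplex.single Y.Modules (ComplexShape.up ℤ) 0).obj M
  let P := (resX Y).obj G
  haveI := quasiIso_resXπ G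
  haveI : IsIso (DerivedCategory.Q.map ((resXπ Y).app G)) :=
    Localization.inverts DerivedCategory.Q (HomologicalComplex.quasiIso Y.Modules (ComplexShape.up ℤ)) _
      ((HomologicalComplex.mem_quasiIso_iff _).2 inferInstance)
  let eP : DCoh.toD Y P ≅ DCoh.inD Y M :=
    asIso (DerivedCategory.Q.map ((resXπ Y).app G)) ≪≫ ((DerivedCategory.singleFunctorIsoCompQ Y.Modules 0).app M).symm
  let fP := ((Scheme.Modules.pullback g).mapHomologicalComplex (ComplexShape.up ℤ)).obj P
  haveI := isIso_lTensorCounit_app F fP (isKFlat_pullback g (isKFlat_resX G))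
  let T := (DCoh.tensorCx.obj fP).obj F
  let eT : DCoh.toD X T ≅ (DCoh.LTensorCx F).obj ((DCoh.Lpull g).obj (DCoh.inD Y M)) :=
    (asIso ((lTensorCounit F).app fP)).symm ≪≫
      (DCoh.LTensorCx F).mapIso ((lpullIso g _ (isKFlat_resX G) (isFlat_resX G)).symm ≪≫
        (DCoh.Lpull g).mapIso eP)
  have hT : IsZero (T.homology i) := isZero_of_stalks fun x => by
    let A := Y.presheaf.stalk (g.base x)
    let G' : DRing.Cx A := ((stkF (g.base x)).mapHomologicalComplex (ComplexShape.up ℤ)).obj P
    let M' : ModuleCat.{u} A := (stkF (g.base x)).obj M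
    let eG : DRing.toD G' ≅ DRing.toD (single₀ M') :=
      ((stkF (g.base x)).mapDerivedCategoryFactors.app P).symm ≪≫
        (stkF (g.base x)).mapDerivedCategory.mapIso (asIso (DerivedCategory.Q.map ((resXπ Y).app G))) ≪≫
        (stkF (g.base x)).mapDerivedCategoryFactors.app G ≪≫
        DerivedCategory.Q.mapIso ((HomologicalComplex.singleMapHomologicalComplex (stkF (g.base x))
          (ComplexShape.up ℤ) 0).app M)
    have h1 := exactAt_tensor_of_amp ((DerSch.stalkCxOver g x).obj F) G'
      ((isKFlat_iff_stalk P).1 (isKFlat_resX G) (g.base x)) M' eG (hF x) i hi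
    have h2 : ((DerSch.stalkCxOver g x).obj T).ExactAt i := h1.of_iso (stalkTensorPullIso g x P F).symm
    have h3 : IsZero ((DerSch.stalkOver g x).obj (T.homology i)) :=
      ((HomologicalComplex.exactAt_iff_isZero_homology _ _).1 h2).of_iso
        ((T.sc i).mapHomologyIso (DerSch.stalkOver g x)).symm
    exact ModuleCat.subsingleton_of_isZero h3
  exact hT.of_iso ((DerivedCategory.homologyFunctor X.Modules i).mapIso eT.symm ≪≫
    (DerivedCategory.homologyFunctorFactors X.Modules i).app T)

end Groth.Agent.DerSchH7
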