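import Groth.Agent.DerSchH7.StalkPerf
import Groth.Agent.DerSchH7.Vanish
import Groth.Agent.DCohLib.PerfCrit
import Groth.Agent.DRingLib.TorDim

/-!
# Pseudo-coherent bounded objects over stalks of finite tor dimension
-/

set_option autoImplicit false
set_option linter.style.haveILetI false
set_option backward.isDefEq.respectTransparency false

universe u

open CategoryTheory Limits AlgebraicGeometry
attribute [local instance] HasDerivedCategory.standard

noncomputable section

namespace Groth.Agent.DerSchH7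

open Groth.Agent.DCohLib Groth.Agent.DRingLib Groth.Agent.DTenLib

variable {X : Scheme.{u}}

theorem exists_perfOn_nhd {F : CochainComplex X.Modules ℤ} {a b : ℤ} [F.IsGE a] (x : X)
    (hpc : DCoh.IsPseudoCoherentD (a - 1) (DCoh.toD X F))
    (hamp : DRing.HasTorAmplitudeIn (X.presheaf.stalk x) a b
      (DRing.toD (((stkF x).mapHomologicalComplex (ComplexShape.up ℤ)).obj F))) :
    ∃ (U : Scheme.{u}) (j : U ⟶ X) (_ : IsOpenImmersion j) (y : U), j y = x ∧
      DCoh.IsPerfect ((DCoh.restrictD j).obj (DCoh.toD X F)) := by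
  obtain ⟨V, hx, hV⟩ := (isPseudoCoherentD_iff _ _).1 hpc x
  obtain ⟨G, α, hG, -, hα⟩ := hV.exists_brutal
  obtain ⟨W, hW, β, hβ⟩ := exists_open_represent hG (α ≫ (restrictDQ V.ι F).hom) (⟨x, hx⟩ : V)
  have hQ : DerivedCategory.Q.map β = (restrictDQ W.ι G).inv ≫
      (DCoh.restrictD W.ι).map (α ≫ (restrictDQ V.ι F).hom) ≫
        (restrictDQ W.ι ((resCx V.ι).obj F)).hom := by
    rw [hβ]
    simp [restrictDQ]
  have hm : MIso (a - 1) (DerivedCategory.Q.map β) := by
    rw [hQ]
    exact (mIso_of_isIso _ _).comp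
      (((hα.comp (mIso_of_isIso _ _)).restrict W.ι).comp (mIso_of_isIso _ _))
  let y : W := ⟨⟨x, hx⟩, hW⟩
  let j : (W : Scheme.{u}) ⟶ X := W.ι ≫ V.ι
  let F₂ := (resCx W.ι).obj ((resCx V.ι).obj F)
  haveI : CochainComplex.IsGE F₂ a := by
    refine (CochainComplex.isGE_iff _ _).2 fun i hi => ?_
    have h := (HomologicalComplex.exactAt_iff _ _).1 ((CochainComplex.isGE_iff F a).1 inferInstance i hi)
    exact (HomologicalComplex.exactAt_iff _ _).2
      ((h.map (Scheme.Modules.restrictFunctor V.ι)).map (Scheme.Modules.restrictFunctor W.ι))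
  have hamp₂ : DRing.HasTorAmplitudeIn ((W : Scheme.{u}).presheaf.stalk y) a b
      (DRing.toD (((stkF y).mapHomologicalComplex (ComplexShape.up ℤ)).obj F₂)) := by
    have h1 : ∀ {T U : Scheme.{u}} (k : U ⟶ T) [IsOpenImmersion k] (z : U) (K : CochainComplex T.Modules ℤ),
        DRing.HasTorAmplitudeIn (T.presheaf.stalk (k z)) a b
          (DRing.toD (((stkF (k z)).mapHomologicalComplex (ComplexShape.up ℤ)).obj K)) →
        DRing.HasTorAmplitudeIn (U.presheaf.stalk z) a b
          (DRing.toD (((stkF z).mapHomologicalComplex (ComplexShape.up ℤ)).obj ((resCx k).obj K))) :=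
      fun k _ z K h => amp_of_restrict_bijective (k.stalkMap z).hom
        (ConcreteCategory.bijective_of_isIso (k.stalkMap z)) _
        (amp_of_iso (DerivedCategory.Q.mapIso
          ((restrictStalkCxIso k z K).symm ≪≫ stalkCxOverResIso k z _)) h)
    exact h1 W.ι y _ (h1 V.ι _ F hamp)
  obtain ⟨U, hU, hP⟩ := exists_perfOn_of_approx (F := F₂) β (isStrictlyPerfect_restrict W.ι hG) y hm hamp₂
  refine ⟨U, U.ι ≫ j, inferInstance, ⟨y, hU⟩, rfl, isPerfect_of_perfOn ?_⟩
  exact hP.of_iso ((DCoh.restrictD U.ι).mapIso ((restrictDQ W.ι _).symm ≪≫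
    (DCoh.restrictD W.ι).mapIso (restrictDQ V.ι F).symm ≪≫ ((restrictDComp W.ι V.ι).app _).symm) ≪≫
    ((restrictDComp U.ι j).app _).symm)

end Groth.Agent.DerSchH7
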