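import Groth.Agent.PullbackMod.FibreRank
import Groth.Prelude.Def_FlatMod2
import Mathlib.RingTheory.Flat.Localization

/-! Sections of a relatively flat quasi-coherent module are flat. -/

set_option autoImplicit false
set_option backward.isDefEq.respectTransparency false
set_option linter.style.haveILetI false

universe u

open CategoryTheory AlgebraicGeometry TopologicalSpace Opposite

noncomputable section

namespace Groth.Agent.DerSchH7

variable {X S : Scheme.{u}}

theorem flat_sections_over (f : X ⟶ S) (M : X.Modules) [Coh.IsQCoh M] {W : X.Opens} (hW : IsAffineOpen W)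
    {V : S.Opens} (hV : IsAffineOpen V) (h : W ≤ f ⁻¹ᵁ V) (hfl : FlatMod.IsFlatOver f M) :
    letI := Module.compHom Γ(M, W) (f.appLE V W h).hom
    Module.Flat Γ(S, V) Γ(M, W) := by
  letI : Algebra Γ(S, V) Γ(X, W) := (f.appLE V W h).hom.toAlgebra
  letI := Module.compHom Γ(M, W) (f.appLE V W h).hom
  haveI : IsScalarTower Γ(S, V) Γ(X, W) Γ(M, W) := .of_algebraMap_smul fun _ _ => rfl
  let pt : ∀ (P : Ideal Γ(X, W)) [P.IsMaximal], X := fun P _ => hW.fromSpec ⟨P, inferInstance⟩
  have hpt : ∀ (P : Ideal Γ(X, W)) [P.IsMaximal], pt P ∈ W := fun P _ => by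
    have : pt P ∈ Set.range hW.fromSpec := ⟨_, rfl⟩
    rwa [hW.range_fromSpec] at this
  letI : ∀ (P : Ideal Γ(X, W)) [P.IsMaximal], Module Γ(X, W) ((M.presheaf.stalk (pt P))) := fun P _ =>
    Module.compHom (M.presheaf.stalk (pt P)) (X.presheaf.germ W (pt P) (hpt P)).hom
  letI iR : ∀ (P : Ideal Γ(X, W)) [P.IsMaximal], Module Γ(S, V) ((M.presheaf.stalk (pt P))) := fun P _ =>
    Module.compHom ((M.presheaf.stalk (pt P))) (f.appLE V W h).hom
  haveI : ∀ (P : Ideal Γ(X, W)) [P.IsMaximal], IsScalarTower Γ(S, V) Γ(X, W) ((M.presheaf.stalk (pt P))) := fun P _ =>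
    .of_algebraMap_smul fun _ _ => rfl
  let g : ∀ (P : Ideal Γ(X, W)) [P.IsMaximal], Γ(M, W) →ₗ[Γ(X, W)] (M.presheaf.stalk (pt P)) := fun P _ =>
    FlatLocus.germL M W (pt P) (hpt P)
  haveI : ∀ (P : Ideal Γ(X, W)) [P.IsMaximal], IsLocalizedModule.AtPrime P (g P) := fun P _ => by
    have hP : hW.primeIdealOf ⟨pt P, hpt P⟩ = ⟨P, inferInstance⟩ :=
      hW.fromSpec.isOpenEmbedding.injective (hW.fromSpec_primeIdealOf ⟨pt P, hpt P⟩)
    have := FlatLocus.isLocalizedModule_germL M hW (pt P) (hpt P)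
    rwa [hP] at this
  refine @Module.flat_of_isLocalized_maximal Γ(S, V) Γ(X, W) _ _ _ Γ(M, W) _ _ _ _
    (fun P _ => M.presheaf.stalk (pt P)) (fun P _ => inferInstance) iR
    (fun P _ => Module.compHom (M.presheaf.stalk (pt P)) (X.presheaf.germ W (pt P) (hpt P)).hom)
    (fun P _ => .of_algebraMap_smul fun _ _ => rfl) g (fun P _ => inferInstance) fun P _ => ?_
  let x : X := pt P
  have hy : f.base x ∈ V := h (hpt P)
  letI : Algebra Γ(S, V) (S.presheaf.stalk (f.base x)) :=
    TopCat.Presheaf.algebra_section_stalk S.presheaf ⟨f.base x, hy⟩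
  letI : Module (S.presheaf.stalk (f.base x)) ((M.presheaf.stalk (pt P))) := FlatMod.moduleStalkOver f M x
  haveI : IsScalarTower Γ(S, V) (S.presheaf.stalk (f.base x)) ((M.presheaf.stalk (pt P))) := .of_algebraMap_smul fun r z => by
    show (f.stalkMap x).hom (S.presheaf.germ V (f.base x) hy r) • (z : M.presheaf.stalk x) =
      X.presheaf.germ W x (hpt P) (f.appLE V W h r) • (z : M.presheaf.stalk x)
    congr 1
    refine (Scheme.Hom.germ_stalkMap_apply f V x hy r).trans ?_
    exact (TopCat.Presheaf.germ_res_apply X.presheaf (homOfLE h) x (hpt P) (f.app V r)).symm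
  haveI := hV.isLocalization_stalk ⟨f.base x, hy⟩
  haveI : Module.Flat Γ(S, V) (S.presheaf.stalk (f.base x)) :=
    IsLocalization.flat _ (hV.primeIdealOf ⟨f.base x, hy⟩).asIdeal.primeCompl
  haveI : Module.Flat (S.presheaf.stalk (f.base x)) ((M.presheaf.stalk (pt P))) := hfl x
  exact Module.Flat.trans _ (S.presheaf.stalk (f.base x)) _

end Groth.Agent.DerSchH7
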