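import Groth.Agent.DerSchH7.SiteHom

/-!
# Exactness criteria for homology of derived tensor products on a site
-/

set_option autoImplicit false
set_option backward.isDefEq.respectTransparency false
set_option linter.style.haveILetI false

universe u v v' u'

open CategoryTheory Limits

noncomputable section

namespace Groth.Agent.DerSchH7

section Abstract

variable {A : Type u'} [Category.{v'} A] [Abelian A] {B : Type u} [Category.{v} B] [Abelian B]
  (T : A ⥤ CochainComplex B ℤ) [T.Additive] (hT : ∀ S : ShortComplex A, S.ShortExact → (S.map T).ShortExact)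

include hT in
theorem preservesFiniteColimits_homology_iff (p : ℤ) :
    PreservesFiniteColimits (T ⋙ HomologicalComplex.homologyFunctor B (ComplexShape.up ℤ) p) ↔
      ∀ ⦃M N : A⦄ (f : M ⟶ N), Mono f → Mono (HomologicalComplex.homologyMap (T.map f) (p + 1)) := by
  let H := T ⋙ HomologicalComplex.homologyFunctor B (ComplexShape.up ℤ) p
  constructor
  · intro h M N f hf
    haveI := hf
    let S := ShortComplex.mk f (cokernel.π f) (cokernel.condition f)
    have hS : S.ShortExact := { exact := ShortComplex.exact_of_g_is_cokernel _ (cokernelIsCokernel f) }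
    have hep : Epi (H.map S.g) :=
      ((H.preservesFiniteColimits_iff_forall_exact_map_and_epi).1 h S hS).2
    haveI : Epi (HomologicalComplex.homologyMap (S.map T).g p) := hep
    have hδ : (hT S hS).δ p (p + 1) rfl = 0 := by
      rw [← cancel_epi (HomologicalComplex.homologyMap (S.map T).g p), (hT S hS).comp_δ, comp_zero]
    exact ((hT S hS).homology_exact₁ p (p + 1) rfl).mono_g hδ
  · intro h
    refine (H.preservesFiniteColimits_iff_forall_exact_map_and_epi).2 fun S hS => ?_
    refine ⟨(hT S hS).homology_exact₂ p, ?_⟩
    haveI : Mono (HomologicalComplex.homologyMap (S.map T).f (p + 1)) := h S.f hS.mono_f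
    have hδ : (hT S hS).δ p (p + 1) rfl = 0 := by
      rw [← cancel_mono (HomologicalComplex.homologyMap (S.map T).f (p + 1)), (hT S hS).δ_comp, zero_comp]
    exact ((hT S hS).homology_exact₃ p (p + 1) rfl).epi_f hδ

include hT in
theorem preservesFiniteLimits_homology_iff (p : ℤ) :
    PreservesFiniteLimits (T ⋙ HomologicalComplex.homologyFunctor B (ComplexShape.up ℤ) p) ↔
      ∀ ⦃M N : A⦄ (f : M ⟶ N), Mono f → Mono (HomologicalComplex.homologyMap (T.map f) p) := by
  let H := T ⋙ HomologicalComplex.homologyFunctor B (ComplexShape.up ℤ) p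
  constructor
  · intro h M N f hf
    haveI := hf
    let S := ShortComplex.mk f (cokernel.π f) (cokernel.condition f)
    have hS : S.ShortExact := { exact := ShortComplex.exact_of_g_is_cokernel _ (cokernelIsCokernel f) }
    exact ((H.preservesFiniteLimits_iff_forall_exact_map_and_mono).1 h S hS).2
  · intro h
    exact (H.preservesFiniteLimits_iff_forall_exact_map_and_mono).2 fun S hS =>
      ⟨(hT S hS).homology_exact₂ p, h S.f hS.mono_f⟩

theorem mono_homologyMap_iff_mono_opcyclesMap {K L : CochainComplex B ℤ} (φ : K ⟶ L) (i : ℤ)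
    [Mono (φ.f (i + 1))] :
    Mono (HomologicalComplex.homologyMap φ i) ↔ Mono (HomologicalComplex.opcyclesMap φ i) := by
  constructor
  · intro h
    refine Preadditive.mono_of_cancel_zero _ fun {W} x hx => ?_
    have hx' : x ≫ K.fromOpcycles i (i + 1) = 0 := by
      rw [← cancel_mono (φ.f (i + 1)), Category.assoc, zero_comp,
        show K.fromOpcycles i (i + 1) ≫ φ.f (i + 1) =
          HomologicalComplex.opcyclesMap φ i ≫ L.fromOpcycles i (i + 1) from by
            rw [← cancel_epi (K.pOpcycles i)]; simp,
        reassoc_of% hx, zero_comp]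
    obtain ⟨y, hy⟩ := KernelFork.IsLimit.lift' (K.homologyIsKernel i (i + 1) (by simp)) x hx'
    change y ≫ K.homologyι i = x at hy
    have : y ≫ HomologicalComplex.homologyMap φ i = 0 := by
      rw [← cancel_mono (L.homologyι i), Category.assoc, HomologicalComplex.homologyι_naturality,
        ← Category.assoc, hy, hx, zero_comp]
    rw [← hy, Limits.zero_of_comp_mono _ this, zero_comp]
  · intro h
    haveI : Mono (HomologicalComplex.homologyMap φ i ≫ L.homologyι i) := by
      rw [HomologicalComplex.homologyι_naturality]
      infer_instance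
    exact mono_of_mono _ (L.homologyι i)

end Abstract

open Groth.Agent.ModTensor

variable {C : Type u} [SmallCategory C] {J : GrothendieckTopology C} (O : Sheaf J CommRingCat.{u})

theorem shortExact_termTensor (E : CochainComplex (ModSite.Mod O) ℤ) (hE : ∀ i, ModSite.IsFlat (E.X i))
    (S : ShortComplex (ModSite.Mod O)) (hS : S.ShortExact) : (S.map (termTensor O E)).ShortExact := by
  refine HomologicalComplex.shortExact_of_degreewise_shortExact _ fun n => ?_
  haveI := (hE n).1
  haveI := (hE n).2
  haveI : ((ModSite.tensorBi O).flip.obj (E.X n)).PreservesHomology := inferInstance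
  exact hS.map_of_exact ((ModSite.tensorBi O).flip.obj (E.X n))

theorem mono_opcyclesMap_termTensor_iff (E : CochainComplex (ModSite.Mod O) ℤ) (p : ℤ)
    {M N : ModSite.Mod O} (f : M ⟶ N) :
    Mono (HomologicalComplex.opcyclesMap ((termTensor O E).map f) (p + 1)) ↔
      Mono (((ModSite.tensorBi O).map f).app (cokernel (E.d p (p + 1)))) := by
  have key : ∀ M : ModSite.Mod O, ∃ e : ((termTensor O E).obj M).opcycles (p + 1) ≅
      ((ModSite.tensorBi O).obj M).obj (cokernel (E.d p (p + 1))),
      ((termTensor O E).obj M).pOpcycles (p + 1) ≫ e.hom =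
        ((ModSite.tensorBi O).obj M).map (cokernel.π (E.d p (p + 1))) := fun M => by
    haveI : PreservesFiniteColimits ((ModSite.tensorBi O).obj M) :=
      preservesFiniteColimits_of_natIso (tensorSymm O M)
    exact ⟨IsColimit.coconePointUniqueUpToIso
        (((termTensor O E).obj M).opcyclesIsCokernel p (p + 1) (by simp))
        (CokernelCofork.mapIsColimit _ (cokernelIsCokernel (E.d p (p + 1))) ((ModSite.tensorBi O).obj M)),
      IsColimit.comp_coconePointUniqueUpToIso_hom
        (((termTensor O E).obj M).opcyclesIsCokernel p (p + 1) (by simp)) _ WalkingParallelPair.one⟩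
  obtain ⟨eM, hM⟩ := key M
  obtain ⟨eN, hN⟩ := key N
  refine (MorphismProperty.monomorphisms (ModSite.Mod O)).arrow_mk_iso_iff (Arrow.isoMk eM eN ?_)
  show eM.hom ≫ _ = _ ≫ eN.hom
  rw [← cancel_epi (((termTensor O E).obj M).pOpcycles (p + 1)), reassoc_of% hM]
  erw [HomologicalComplex.p_opcyclesMap_assoc, hN]
  exact ((ModSite.tensorBi O).map f).naturality (cokernel.π (E.d p (p + 1)))

theorem preservesFiniteColimits_termTensor_iff (E : CochainComplex (ModSite.Mod O) ℤ)
    (hE : ∀ i, ModSite.IsFlat (E.X i)) (p : ℤ) :
    PreservesFiniteColimits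
        (termTensor O E ⋙ HomologicalComplex.homologyFunctor (ModSite.Mod O) (ComplexShape.up ℤ) p) ↔
      ModSite.IsFlat (cokernel (E.d p (p + 1))) := by
  rw [preservesFiniteColimits_homology_iff _ (shortExact_termTensor O E hE), isFlat_iff_preservesMono]
  refine forall_congr' fun M => forall_congr' fun N => forall_congr' fun f => forall_congr' fun hf => ?_
  haveI : Mono (((termTensor O E).map f).f (p + 1 + 1)) := by
    haveI := hf
    exact (isFlat_iff_preservesMono O _).1 (hE _) f
  exact (mono_homologyMap_iff_mono_opcyclesMap _ (p + 1)).trans (mono_opcyclesMap_termTensor_iff O E p f)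

theorem preservesFiniteColimits_termTensor_iff_limits (E : CochainComplex (ModSite.Mod O) ℤ)
    (hE : ∀ i, ModSite.IsFlat (E.X i)) (p : ℤ) :
    PreservesFiniteColimits
        (termTensor O E ⋙ HomologicalComplex.homologyFunctor (ModSite.Mod O) (ComplexShape.up ℤ) p) ↔
      PreservesFiniteLimits
        (termTensor O E ⋙ HomologicalComplex.homologyFunctor (ModSite.Mod O) (ComplexShape.up ℤ) (p + 1)) := by
  rw [preservesFiniteColimits_homology_iff _ (shortExact_termTensor O E hE),
    preservesFiniteLimits_homology_iff _ (shortExact_termTensor O E hE)]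

end Groth.Agent.DerSchH7
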