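import Groth.Agent.DerSchH7.SiteTot
import Groth.Agent.DCohLib.TensorPerf
import Groth.Agent.KFlat.ModSite

/-!
# Homology of derived tensor products with modules on a site
-/

set_option autoImplicit false
set_option backward.isDefEq.respectTransparency false
set_option linter.style.haveILetI false

universe u

open CategoryTheory Limits

attribute [local instance] HasDerivedCategory.standard

noncomputable section

namespace Groth.Agent.DerSchH7

open Groth.Agent.DCohLib Groth.Agent.KFlat

variable {C : Type u} [SmallCategory C] {J : GrothendieckTopology C} (O : Sheaf J CommRingCat.{u})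

theorem hasLTensorCx_site (E : CochainComplex (ModSite.Mod O) ℤ) : ModSite.HasLTensorCx E :=
  (siteAdapted O E).hasLeftDerivedFunctor DerivedCategory.Q

theorem nonempty_siteLTensor_of_qis {E E' : CochainComplex (ModSite.Mod O) ℤ} [ModSite.HasLTensorCx E]
    [ModSite.HasLTensorCx E'] (s : E' ⟶ E) (hs : QuasiIso s) :
    Nonempty (ModSite.LTensorCx E' ≅ ModSite.LTensorCx E) := by
  let τ : ModSite.tensorCxQ E' ⟶ ModSite.tensorCxQ E :=
    Functor.whiskerRight ((ModSite.tensorCx O).flip.map s) DerivedCategory.Q
  haveI : (ModSite.LTensorCx E').IsLeftDerivedFunctor (siteCounit O E' ≫ τ)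
      (HomologicalComplex.quasiIso (ModSite.Mod O) (ComplexShape.up ℤ)) := by
    refine (siteAdapted O E).isLeftDerivedFunctor DerivedCategory.Q _ _ fun A => ?_
    rw [NatTrans.comp_app]
    refine IsIso.comp_isIso' (isIso_siteCounit_app O E' _ (isKFlat_resF O A)) ?_
    haveI := hs
    exact (DerivedCategory.isIso_Q_map_iff_quasiIso (C := ModSite.Mod O) _).2
      (quasiIso_tensorCxSite_obj_map O (isKFlat_resF O A) s)
  exact ⟨Functor.leftDerivedUnique (ModSite.LTensorCx E) (ModSite.LTensorCx E') (siteCounit O E' ≫ τ)
    (siteCounit O E) (HomologicalComplex.quasiIso (ModSite.Mod O) (ComplexShape.up ℤ))⟩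

/-- Tensoring a fixed complex termwise with a variable module. -/
def termTensor (E : CochainComplex (ModSite.Mod O) ℤ) :
    ModSite.Mod O ⥤ CochainComplex (ModSite.Mod O) ℤ where
  obj M := (((ModSite.tensorBi O).obj M).mapHomologicalComplex (ComplexShape.up ℤ)).obj E
  map f := (NatTrans.mapHomologicalComplex ((ModSite.tensorBi O).map f) (ComplexShape.up ℤ)).app E
  map_id M := by
    refine HomologicalComplex.hom_ext _ _ fun n => ?_
    simp [CategoryTheory.Functor.map_id]
  map_comp f g := by
    refine HomologicalComplex.hom_ext _ _ fun n => ?_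
    simp [Functor.map_comp]

instance additive_termTensor (E : CochainComplex (ModSite.Mod O) ℤ) : (termTensor O E).Additive :=
  ⟨fun {M N f g} => by
    refine HomologicalComplex.hom_ext _ _ fun n => ?_
    exact ((ModSite.tensorBi O).flip.obj (E.X n)).map_add⟩

/-- A module in degree zero tensored with a complex is the termwise tensor product. -/
def termTensorIso (E : CochainComplex (ModSite.Mod O) ℤ) :
    termTensor O E ≅ CochainComplex.singleFunctor (ModSite.Mod O) 0 ⋙ (ModSite.tensorCx O).flip.obj E :=
  NatIso.ofComponents
    (fun M => HomologicalComplex.Hom.isoOfComponents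
        (fun n => @asIso _ _ _ _ (singleι (ModSite.tensorBi O).flip E 0 M n n (add_zero n))
          (isIso_singleι _ _ _ _ _ _ _))
        (fun i j hij => singleι_d (ModSite.tensorBi O).flip E 0 M i j i j (add_zero i) (add_zero j) hij) ≪≫
      HomologicalComplex.mapBifunctorFlipIso
        ((CochainComplex.singleFunctor (ModSite.Mod O) 0).obj M) E (ModSite.tensorBi O) (ComplexShape.up ℤ))
    fun {M N} f => by
      have h : (termTensor O E).map f ≫
          (HomologicalComplex.Hom.isoOfComponents
            (fun n => @asIso _ _ _ _ (singleι (ModSite.tensorBi O).flip E 0 N n n (add_zero n))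
              (isIso_singleι _ _ _ _ _ _ _))
            (fun i j hij => singleι_d (ModSite.tensorBi O).flip E 0 N i j i j (add_zero i) (add_zero j) hij)).hom =
          (HomologicalComplex.Hom.isoOfComponents
            (fun n => @asIso _ _ _ _ (singleι (ModSite.tensorBi O).flip E 0 M n n (add_zero n))
              (isIso_singleι _ _ _ _ _ _ _))
            (fun i j hij => singleι_d (ModSite.tensorBi O).flip E 0 M i j i j (add_zero i) (add_zero j) hij)).hom ≫
          HomologicalComplex.mapBifunctorMap (𝟙 E) ((CochainComplex.singleFunctor (ModSite.Mod O) 0).map f)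
            (ModSite.tensorBi O).flip (ComplexShape.up ℤ) := by
        refine HomologicalComplex.hom_ext _ _ fun n => ?_
        show ((ModSite.tensorBi O).flip.obj (E.X n)).map f ≫
            singleι (ModSite.tensorBi O).flip E 0 N n n (add_zero n) =
          singleι (ModSite.tensorBi O).flip E 0 M n n (add_zero n) ≫
            (HomologicalComplex.mapBifunctorMap (𝟙 E) ((CochainComplex.singleFunctor (ModSite.Mod O) 0).map f)
              (ModSite.tensorBi O).flip (ComplexShape.up ℤ)).f n
        simp only [singleι, Category.assoc]
        erw [HomologicalComplex.ι_mapBifunctorMap]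
        rw [HomologicalComplex.id_f, CategoryTheory.Functor.map_id, NatTrans.id_app, Category.id_comp]
        erw [← Category.assoc, ← Category.assoc, ← Functor.map_comp, ← Functor.map_comp]
        congr 2
      simp only [Iso.trans_hom]
      refine ((Category.assoc _ _ _).symm.trans (congrArg (· ≫ _) h)).trans
        ((Category.assoc _ _ _).trans ((congrArg (_ ≫ ·) ?_).trans (Category.assoc _ _ _).symm))
      exact HomologicalComplex.mapBifunctorFlipIso_hom_naturality
        ((CochainComplex.singleFunctor (ModSite.Mod O) 0).map f) (𝟙 E) (ModSite.tensorBi O) (ComplexShape.up ℤ)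

/-- Homology of the derived tensor product with a K-flat complex. -/
theorem nonempty_homologyTensorIso (E : CochainComplex (ModSite.Mod O) ℤ) (hE : ModSite.IsKFlat E)
    [ModSite.HasLTensorCx E] (p : ℤ) :
    Nonempty (DerivedCategory.singleFunctor (ModSite.Mod O) 0 ⋙ ModSite.LTensorCx E ⋙
        DerivedCategory.homologyFunctor (ModSite.Mod O) p ≅
      termTensor O E ⋙ HomologicalComplex.homologyFunctor (ModSite.Mod O) (ComplexShape.up ℤ) p) := by
  haveI : IsIso (siteCounit O E) :=
    (NatTrans.isIso_iff_isIso_app _).2 fun K => isIso_siteCounit_app_of_isKFlat O E hE K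
  exact ⟨Functor.isoWhiskerRight (DerivedCategory.singleFunctorIsoCompQ (ModSite.Mod O) 0) _ ≪≫
    Functor.isoWhiskerLeft (CochainComplex.singleFunctor (ModSite.Mod O) 0)
      (Functor.isoWhiskerRight (asIso (siteCounit O E)) (DerivedCategory.homologyFunctor (ModSite.Mod O) p)) ≪≫
    Functor.isoWhiskerRight (termTensorIso O E).symm
      (DerivedCategory.Q ⋙ DerivedCategory.homologyFunctor (ModSite.Mod O) p) ≪≫
    Functor.isoWhiskerLeft (termTensor O E) (DerivedCategory.homologyFunctorFactors (ModSite.Mod O) p)⟩

end Groth.Agent.DerSchH7
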