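import Groth.Agent.DerSchH7.SiteTensor
import Groth.Agent.ModTensor.Flat
import Groth.Agent.ModTensor.FlatAcyclic

/-!
# Terms of the total tensor product on a site
-/

set_option autoImplicit false
set_option backward.isDefEq.respectTransparency false
set_option linter.style.haveILetI false

universe u

open CategoryTheory Limits

noncomputable section

namespace Groth.Agent.DerSchH7

variable {C : Type u} [SmallCategory C] {J : GrothendieckTopology C} (O : Sheaf J CommRingCat.{u})

theorem isFlat_sigma_zero {ι : Type} (F : ι → ModSite.Mod O) (hF : ∀ i, ModSite.IsFlat (F i)) :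
    ModSite.IsFlat (∐ F) :=
  ModTensor.isFlat_of_iso O (Sigma.reindex Equiv.ulift.{u} F)
    (ModTensor.isFlat_sigma O (fun i : ULift.{u} ι => F i.down) fun i => hF i.down)

theorem isFlat_tensorCx_X (P F : CochainComplex (ModSite.Mod O) ℤ) (hP : ∀ i, ModSite.IsFlat (P.X i))
    (hF : ∀ i, ModSite.IsFlat (F.X i)) (k : ℤ) :
    ModSite.IsFlat ((((ModSite.tensorCx O).obj P).obj F).X k) :=
  isFlat_sigma_zero O _ fun ⟨⟨p, q⟩, _⟩ => ModTensor.isFlat_tens O _ _ (hP p) (hF q)

theorem isZero_tensorBi_obj_obj {M N : ModSite.Mod O} (h : IsZero M ∨ IsZero N) :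
    IsZero (((ModSite.tensorBi O).obj M).obj N) := by
  rcases h with h | h
  · haveI : ((ModSite.tensorBi O).flip.obj N).Additive := ModTensor.additive_tensorBi_flip O N
    exact ((ModSite.tensorBi O).flip.obj N).map_isZero h
  · haveI : ((ModSite.tensorBi O).obj M).Additive := ModTensor.additive_tensorBi_obj O M
    exact ((ModSite.tensorBi O).obj M).map_isZero h

theorem isZero_tensorCx_X (P F : CochainComplex (ModSite.Mod O) ℤ) (m n m' n' : ℤ)
    (hP : ∀ i, i < m ∨ n < i → IsZero (P.X i)) (hF : ∀ i, i < m' ∨ n' < i → IsZero (F.X i)) (k : ℤ)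
    (hk : k < m + m' ∨ n + n' < k) : IsZero ((((ModSite.tensorCx O).obj P).obj F).X k) := by
  rw [IsZero.iff_id_eq_zero]
  apply HomologicalComplex.mapBifunctor.hom_ext
  intro p q h
  apply IsZero.eq_of_src
  refine isZero_tensorBi_obj_obj O ?_
  by_cases hp : p < m ∨ n < p
  · exact Or.inl (hP p hp)
  · refine Or.inr (hF q ?_)
    have : p + q = k := h
    omega

end Groth.Agent.DerSchH7
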