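import Groth.Agent.DerSchH7.PerfAmp
import Groth.Agent.DCohLib.LocHtp
import Groth.Agent.DRingLib.PerfTor
import Groth.Agent.PullbackMod.LimFree

/-!
# Perfectness near a point from tor amplitude of the stalk
-/

set_option autoImplicit false
set_option linter.style.haveILetI false
set_option backward.isDefEq.respectTransparency false

universe u

open CategoryTheory Limits AlgebraicGeometry
attribute [local instance] HasDerivedCategory.standard

noncomputable section

namespace Groth.Agent.DerSchH7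

open Groth.Agent.DCohLib

variable {X : Scheme.{u}}

theorem projective_stalk_of_isFinLocFree {M : X.Modules} (h : FlatMod.IsFinLocFree M) (x : X) :
    Module.Projective (X.presheaf.stalk x) ((stkF x).obj M) := by
  obtain ⟨h1, h2⟩ := PullbackMod.isQCoh_and_isFP_of_isFinLocFree _ h
  haveI := h1
  obtain ⟨n, ⟨e⟩⟩ := (PullbackMod.isFinLocFree_iff_freeAt M h2).1 h x
  exact Module.Projective.of_equiv' (R := X.presheaf.stalk x) e.symm

theorem mIso_map_stkF {G F : CochainComplex X.Modules ℤ} (β : G ⟶ F) (x : X) {m : ℤ}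
    (hβ : MIso m (DerivedCategory.Q.map β)) :
    MIso m (DerivedCategory.Q.map (((stkF x).mapHomologicalComplex (ComplexShape.up ℤ)).map β)) := by
  let Φ := (stkF x).mapHomologicalComplex (ComplexShape.up ℤ)
  have e : ∀ i, Arrow.mk ((stkF x).map (HomologicalComplex.homologyMap β i)) ≅
      Arrow.mk (HomologicalComplex.homologyMap (Φ.map β) i) := fun i =>
    Arrow.isoMk ((G.sc i).mapHomologyIso (stkF x)).symm ((F.sc i).mapHomologyIso (stkF x)).symm
      (ShortComplex.mapHomologyIso_inv_naturality ((HomologicalComplex.shortComplexFunctor _ _ i).map β) (stkF x)).symm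
  obtain ⟨h1, h2⟩ := (mIso_iff _ _).1 hβ
  refine (mIso_iff _ _).2 ⟨fun i hi => ?_, ?_⟩
  · haveI := (map_homologyFunctor_Q β i).1.1 (h1 i hi)
    exact (map_homologyFunctor_Q _ i).1.2 (((MorphismProperty.isomorphisms _).arrow_mk_iso_iff (e i)).1
      (inferInstanceAs (IsIso ((stkF x).map (HomologicalComplex.homologyMap β i)))))
  · haveI := (map_homologyFunctor_Q β m).2.1.1 h2
    exact (map_homologyFunctor_Q _ m).2.1.2 (((MorphismProperty.epimorphisms _).arrow_mk_iso_iff (e m)).1
      (inferInstanceAs (Epi ((stkF x).map (HomologicalComplex.homologyMap β m)))))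

theorem flat_stalk_opcycles_of_approx {G F : CochainComplex X.Modules ℤ} (β : G ⟶ F)
    (hG : DCoh.IsStrictlyPerfect G) {a b : ℤ} (x : X) (hβ : MIso (a - 1) (DerivedCategory.Q.map β))
    (hamp : DRing.HasTorAmplitudeIn (X.presheaf.stalk x) a b
      (DRing.toD (((stkF x).mapHomologicalComplex (ComplexShape.up ℤ)).obj F))) :
    Module.Flat (X.presheaf.stalk x) ((stkF x).obj (G.opcycles a)) := by
  obtain ⟨⟨c, d, hcd⟩, hGf⟩ := hG
  obtain ⟨N, hN, hNflat, ⟨e⟩⟩ := hamp
  let Φ := (stkF x).mapHomologicalComplex (ComplexShape.up ℤ)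
  let Gs : DRing.Cx (X.presheaf.stalk x) := Φ.obj G
  have hproj : ∀ i, Module.Projective (X.presheaf.stalk x) (Gs.X i) := fun i =>
    projective_stalk_of_isFinLocFree (hGf i) x
  haveI : CochainComplex.IsKProjective Gs :=
    DRingLib.isKProjective_of_vanishesAbove (b := max b d)
      (fun i hi => (stkF x).map_isZero (hcd i (Or.inr (by omega)))) hproj
  let ψ : DerivedCategory.Q.obj Gs ⟶ DerivedCategory.Q.obj N := DerivedCategory.Q.map (Φ.map β) ≫ e.inv
  obtain ⟨g, hg⟩ : ∃ g : Gs ⟶ N, DerivedCategory.Q.map g = ψ := by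
    obtain ⟨q, hq⟩ := (CochainComplex.IsKProjective.Qh_map_bijective Gs
      ((HomotopyCategory.quotient _ _).obj N)).2
        ((DerivedCategory.quotientCompQhIso _).hom.app Gs ≫ ψ ≫
          (DerivedCategory.quotientCompQhIso _).inv.app N)
    obtain ⟨g, rfl⟩ := (HomotopyCategory.quotient _ _).map_surjective q
    refine ⟨g, ?_⟩
    rw [← cancel_epi ((DerivedCategory.quotientCompQhIso _).hom.app Gs),
      ← (DerivedCategory.quotientCompQhIso _).hom.naturality g]
    rw [Functor.comp_map, hq]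
    simp
  have hgm : MIso (a - 1) (DerivedCategory.Q.map g) := by
    rw [hg]
    exact (mIso_map_stkF β x hβ).comp (mIso_of_isIso _ _)
  haveI := DRingLib.flat_coker_of_approx g (n := max b d)
    (fun i => DRingLib.termwiseFlat_of_projective hproj i)
    (fun i hi => (stkF x).map_isZero (hcd i (Or.inr (by omega))))
    (fun i hi => hN i (by omega)) hNflat hgm
  obtain ⟨q⟩ := DRingLib.opcycles_equiv Gs a
  haveI : Module.Flat (X.presheaf.stalk x) (Gs.opcycles a) := Module.Flat.of_linearEquiv q.symm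
  exact Module.Flat.of_linearEquiv
    (show Gs.opcycles a ≅ (stkF x).obj (G.opcycles a) from (G.sc a).mapOpcyclesIso (stkF x)).toLinearEquiv.symm

theorem exists_perfOn_of_approx {G F : CochainComplex X.Modules ℤ} (β : G ⟶ F)
    (hG : DCoh.IsStrictlyPerfect G) {a b : ℤ} [F.IsGE a] (x : X)
    (hβ : MIso (a - 1) (DerivedCategory.Q.map β))
    (hamp : DRing.HasTorAmplitudeIn (X.presheaf.stalk x) a b
      (DRing.toD (((stkF x).mapHomologicalComplex (ComplexShape.up ℤ)).obj F))) :
    ∃ U : X.Opens, x ∈ U ∧ PerfOn ((DCoh.restrictD U.ι).obj (DCoh.toD X F)) := by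
  have hfl := flat_stalk_opcycles_of_approx β hG x hβ hamp
  obtain ⟨⟨c, d, hcd⟩, hGf⟩ := hG
  have hqc := fun j => PullbackMod.isQCoh_and_isFP_of_isFinLocFree _ (hGf j)
  haveI := (hqc (a - 1)).1
  haveI := (hqc (a - 1)).2
  have hP1 := (QCohLib.isQCoh_image (G.d (a - 1) a) (hqc (a - 1)).1 (hqc a).1).2
  have hP2 := isFP_cokernel (G.d (a - 1) a) (hqc (a - 1)).1 (hqc a).1
    (inferInstanceAs (SheafOfModules.IsFiniteType (R := X.ringCatSheaf) (G.X (a - 1)))) (hqc a).2
  let eP : cokernel (G.d (a - 1) a) ≅ G.opcycles a :=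
    (colimit.isColimit _).coconePointUniqueUpToIso (G.opcyclesIsCokernel (a - 1) a (by simp))
  haveI := hP1
  have hPx : FlatMod.IsFlatAt (cokernel (G.d (a - 1) a)) x := by
    haveI := hfl
    exact Module.Flat.of_linearEquiv ((stkF x).mapIso eP).toLinearEquiv
  obtain ⟨U, n, hxU, ⟨eU⟩⟩ := FlatLocus.exists_free_nhd _ hP2 x hPx
  haveI : IsIso (DerivedCategory.Q.map (CochainComplex.truncGEMap β a)) := by
    rw [DerivedCategory.isIso_Q_map_iff_quasiIso, CochainComplex.quasiIso_truncGEMap_iff]
    intro i hi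
    rw [quasiIsoAt_iff_isIso_homologyMap]
    exact (map_homologyFunctor_Q β i).1.1 (((mIso_iff _ _).1 hβ).1 i (by omega))
  haveI : IsIso (DerivedCategory.Q.map (F.πTruncGE a)) :=
    Localization.inverts DerivedCategory.Q (HomologicalComplex.quasiIso X.Modules (ComplexShape.up ℤ)) _
      ((HomologicalComplex.mem_quasiIso_iff _).2 ((CochainComplex.quasiIso_πTruncGE_iff F a).2 inferInstance))
  let T := G.truncGE a
  refine ⟨U, hxU, (resCx U.ι).obj T, ⟨⟨a, max d a, fun i hi => isZero_resCx U.ι ?_⟩, fun i => ?_⟩,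
    ⟨(restrictDQ U.ι T).symm ≪≫ (DCoh.restrictD U.ι).mapIso (asIso (DerivedCategory.Q.map
      (CochainComplex.truncGEMap β a)) ≪≫ (asIso (DerivedCategory.Q.map (F.πTruncGE a))).symm)⟩⟩
  · rcases hi with hi | hi
    · exact CochainComplex.isZero_of_isStrictlyGE _ a i hi
    · exact (hcd i (Or.inr (by omega))).of_iso (CochainComplex.truncGEXIso G a i (by omega))
  · rcases lt_trichotomy i a with hi | rfl | hi
    · exact isFinLocFree_of_isZero (isZero_resCx U.ι (CochainComplex.isZero_of_isStrictlyGE T a i hi))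
    · refine isFinLocFree_iso ((Scheme.Modules.restrictFunctor U.ι).mapIso
        (eP ≪≫ (CochainComplex.truncGEXIsoOpcycles G i).symm)) ?_
      exact isFinLocFree_iso eU.symm (isFinLocFree_freeMod n)
    · exact isFinLocFree_iso ((Scheme.Modules.restrictFunctor U.ι).mapIso
        (CochainComplex.truncGEXIso G a i hi).symm) ((isStrictlyPerfect_restrict U.ι ⟨⟨c, d, hcd⟩, hGf⟩).2 i)

end Groth.Agent.DerSchH7
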