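import Groth.Agent.DerSchH7.Trans

/-! Tor amplitude of tensor products over an intermediate ring. -/

set_option autoImplicit false
set_option backward.isDefEq.respectTransparency false

universe u

open CategoryTheory Limits MonoidalCategory
attribute [local instance] HasDerivedCategory.standard

noncomputable section

namespace Groth.Agent.DerSchH7

open Groth.Agent.DRingLib Groth.Agent.DCohLib Groth.Agent.DTenLib

variable {R A : Type u} [CommRing R] [CommRing A] (φ : R →+* A)

/-- Tor amplitude of a tensor product over `A`, seen over `R`. -/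
theorem amp_tensor_trans (F G : DRing.Cx A) (hG : DRing.IsKFlat A G) {a b c d : ℤ}
    (hF : DRing.HasTorAmplitudeIn A a b (DRing.toD F))
    (hG' : DRing.HasTorAmplitudeIn R c d ((DRing.restrictD φ).obj (DRing.toD G))) :
    DRing.HasTorAmplitudeIn R (a + c) (b + d) ((DRing.restrictD φ).obj (DRing.toD (F ⊗ G : DRing.Cx A))) := by
  haveI := hasLTensorCx G
  haveI := hasLTen A
  have h := amp_restrict_LTensorCx φ G hF hG'
  obtain ⟨X, hX, hXf, ⟨eX⟩⟩ := hF
  have hXk : DRing.IsKFlat A X := isKFlat_of_vanishesAbove (b := b) (fun i hi => hX i (Or.inr hi)) hXf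
  obtain ⟨e⟩ := nonempty_LTensorCx_iso G hXk eX (Iso.refl (DRing.toD G))
  haveI := isIso_ε_right X G hG
  haveI := isIso_ε_right F G hG
  let e' : DRing.toD (F ⊗ G : DRing.Cx A) ≅ DRing.toD (X ⊗ G : DRing.Cx A) :=
    (asIso ((DTen.ε A).app (F, G))).symm ≪≫
      (DTen.LTen₂ A).mapIso (Iso.prod eX.symm (Iso.refl _)) ≪≫ asIso ((DTen.ε A).app (X, G))
  exact amp_of_iso ((DRing.restrictD φ).mapIso
    (e.symm ≪≫ DerivedCategory.Q.mapIso (DTen.braidCx G X) ≪≫ e'.symm)) h

end Groth.Agent.DerSchH7
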