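import Groth.Agent.DRingLib.RestrictAmp2
import Groth.Agent.DRingLib.RestrictAmp

/-! Tor amplitude along a composite of ring maps. -/

set_option autoImplicit false
set_option backward.isDefEq.respectTransparency false

universe u

open CategoryTheory Limits MonoidalCategory
attribute [local instance] HasDerivedCategory.standard

noncomputable section

namespace Groth.Agent.DerSchH7

open Groth.Agent.DRingLib Groth.Agent.DCohLib Groth.Agent.DTenLib

variable {R A : Type u} [CommRing R] [CommRing A] (φ : R →+* A)

theorem hasLTensorCx (E : DRing.Cx A) : DRing.HasLTensorCx A E :=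
  (adaptedTensorCx E).hasLeftDerivedFunctor DerivedCategory.Q

/-- Tor amplitude over the source from tor amplitude over the target and of the map. -/
theorem amp_trans {K : Dual.D A} {a b c d : ℤ} (hK : DRing.HasTorAmplitudeIn A a b K)
    (hA : DRing.HasTorAmplitudeIn R c d
      ((DRing.restrictD φ).obj (DRing.toD (single₀ (ModuleCat.of A A))))) :
    DRing.HasTorAmplitudeIn R (a + c) (b + d) ((DRing.restrictD φ).obj K) := by
  let L : DRing.Cx A := single₀ (ModuleCat.of A A)
  haveI := hasLTensorCx L
  have h := amp_restrict_LTensorCx φ L hK hA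
  obtain ⟨X, hX, hXf, ⟨eX⟩⟩ := hK
  have hXk : DRing.IsKFlat A X := isKFlat_of_vanishesAbove (b := b) (fun i hi => hX i (Or.inr hi)) hXf
  obtain ⟨e⟩ := nonempty_LTensorCx_iso L hXk eX (Iso.refl (DRing.toD L))
  let ρ : (L ⊗ X : DRing.Cx A) ≅ X :=
    (singleTensorIso (ModuleCat.of A A) X).symm ≪≫
      (NatIso.mapHomologicalComplex (leftUnitorNatIso (ModuleCat.{u} A)) (ComplexShape.up ℤ)).app X ≪≫
      (Functor.mapHomologicalComplexIdIso (ModuleCat.{u} A) (ComplexShape.up ℤ)).app X
  exact amp_of_iso ((DRing.restrictD φ).mapIso (e.symm ≪≫ DerivedCategory.Q.mapIso ρ ≪≫ eX)) h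

end Groth.Agent.DerSchH7
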